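import Cfsg.Agent.H456.FourE
import Cfsg.Agent.Solvable.Hall

set_option autoImplicit false
set_option linter.unusedSectionVars false

/-!
S3814: Hall subgroups and the configuration of a `p'`-group acting irreducibly.
-/

namespace Cfsg.Agent.H456

open Cfsg.Agent
open scoped commutatorElement

theorem exists_part (n : ℕ) (hn : n ≠ 0) (P : ℕ → Prop) :
    ∃ m k, n = m * k ∧ m.Coprime k ∧ (∀ t : ℕ, t.Prime → t ∣ m → P t) ∧
      ∀ t : ℕ, t.Prime → t ∣ k → ¬ P t := by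
  classical
  let S : Finset ℕ := n.divisors.filter (fun m => ∀ t : ℕ, t.Prime → t ∣ m → P t)
  have hS : S.Nonempty := ⟨1, by
    rw [Finset.mem_filter, Nat.mem_divisors]
    refine ⟨⟨one_dvd _, hn⟩, fun t ht h1 => ?_⟩
    exact absurd (Nat.dvd_one.1 h1) ht.one_lt.ne'⟩
  obtain ⟨m, hmS, hmax⟩ := S.exists_max_image id hS
  rw [Finset.mem_filter, Nat.mem_divisors] at hmS
  obtain ⟨⟨⟨k, hk⟩, -⟩, hmP⟩ := hmS
  have hkP : ∀ t : ℕ, t.Prime → t ∣ k → ¬ P t := by
    rintro t ht ⟨l, rfl⟩ hPt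
    have h1 : m * t ∈ S := by
      rw [Finset.mem_filter, Nat.mem_divisors]
      refine ⟨⟨⟨l, by rw [hk, mul_assoc]⟩, hn⟩, ?_⟩
      intro u hu hd
      rcases (Nat.Prime.dvd_mul hu).1 hd with h | h
      · exact hmP u hu h
      · rw [(Nat.prime_dvd_prime_iff_eq hu ht).1 h]; exact hPt
    have h2 := hmax _ h1
    simp only [id] at h2
    have hm0 : m ≠ 0 := by
      rintro rfl
      apply hn; rw [hk, zero_mul]
    have := ht.two_le
    have := Nat.pos_of_ne_zero hm0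
    nlinarith
  refine ⟨m, k, hk, ?_, hmP, hkP⟩
  rw [Nat.coprime_iff_gcd_eq_one]
  by_contra h
  obtain ⟨t, ht, hd⟩ := Nat.exists_prime_and_dvd h
  exact hkP t ht (hd.trans (Nat.gcd_dvd_right _ _)) (hmP t ht (hd.trans (Nat.gcd_dvd_left _ _)))

/-- Hall subgroups for a set of primes. -/
theorem exists_hall {G : Type*} [Group G] [Finite G] [Group.IsSolvable G] (P : ℕ → Prop) :
    ∃ L : Subgroup G, (∀ t : ℕ, t.Prime → t ∣ Nat.card L → P t) ∧
      ∀ K : Subgroup G, (∀ t : ℕ, t.Prime → t ∣ Nat.card K → P t) →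
        ∃ g : G, ∀ k ∈ K, g * k * g⁻¹ ∈ L := by
  obtain ⟨m, n, hG, hmn, hm, hn⟩ := exists_part (Nat.card G) Nat.card_pos.ne' P
  obtain ⟨L, hL⟩ := Solvable.Hall.hall_exists m n hG hmn
  refine ⟨L, fun t ht hd => hm t ht (by rwa [hL] at hd), fun K hK => ?_⟩
  have hcop : (Nat.card K).Coprime n := by
    rw [Nat.coprime_iff_gcd_eq_one]
    by_contra h
    obtain ⟨t, ht, hd⟩ := Nat.exists_prime_and_dvd h
    exact hn t ht (hd.trans (Nat.gcd_dvd_right _ _)) (hK t ht (hd.trans (Nat.gcd_dvd_left _ _)))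
  obtain ⟨g, hg⟩ := Solvable.Hall.hall_conj_le m n hG hmn L K hL hcop
  refine ⟨g, fun k hk => hg ?_⟩
  have h1 := Subgroup.smul_mem_pointwise_smul k (MulAut.conj g) K hk
  simpa using h1

/-- primes dividing the order of a group with an exponent -/
theorem dvd_of_exp {G : Type*} [Group G] {A : Subgroup G} [Finite A] {n : ℕ}
    (hA : ∀ a ∈ A, a ^ n = 1) {l : ℕ} (hl : l.Prime) (hd : l ∣ Nat.card A) : l ∣ n := by
  have := Fact.mk hl
  obtain ⟨a, ha⟩ := exists_prime_orderOf_dvd_card' l hd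
  have h1 : a ^ n = 1 := Subtype.ext (by simpa using hA a a.2)
  rw [← ha]; exact orderOf_dvd_of_pow_eq_one h1

theorem EAb.map {Γ Δ : Type*} [Group Γ] [Group Δ] {t : ℕ} {A : Subgroup Γ} (hA : EAb t A)
    (f : Γ →* Δ) (hf : Function.Injective f) : EAb t (A.map f) := by
  refine ⟨?_, ?_, ?_⟩
  · rintro _ ⟨a, ha, rfl⟩ _ ⟨b, hb, rfl⟩
    rw [← map_mul, ← map_mul, hA.comm a ha b hb]
  · rintro _ ⟨a, ha, rfl⟩
    rw [← map_pow, hA.exp a ha, map_one]
  · intro hc
    apply hA.nc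
    exact (MulEquiv.isCyclic (A.equivMapOfInjective f hf)).2 hc

theorem EAb.subgroupOf {Γ : Type*} [Group Γ] {t : ℕ} {A : Subgroup Γ} (hA : EAb t A)
    {L : Subgroup Γ} (hL : A ≤ L) : EAb t (A.subgroupOf L) := by
  refine ⟨?_, ?_, ?_⟩
  · intro a ha b hb
    exact Subtype.ext (hA.comm a (Subgroup.mem_subgroupOf.1 ha) b (Subgroup.mem_subgroupOf.1 hb))
  · intro a ha
    exact Subtype.ext (hA.exp a (Subgroup.mem_subgroupOf.1 ha))
  · intro hc
    exact hA.nc ((MulEquiv.isCyclic (Subgroup.subgroupOfEquivOfLe hL)).1 hc)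

/-- noncyclic groups in Hall subgroups -/
theorem EAb_hall {G : Type*} [Group G] [Finite G] {P : ℕ → Prop} {L : Subgroup G}
    (hL : ∀ K : Subgroup G, (∀ t : ℕ, t.Prime → t ∣ Nat.card K → P t) →
        ∃ g : G, ∀ k ∈ K, g * k * g⁻¹ ∈ L) {t : ℕ} (ht : t.Prime) (hPt : P t)
    (hA : ∃ A : Subgroup G, EAb t A) : ∃ A : Subgroup L, EAb t A := by
  obtain ⟨A, hA⟩ := hA
  obtain ⟨g, hg⟩ := hL A (fun u hu hd => by
    have h1 := dvd_of_exp hA.exp hu hd
    rw [(Nat.prime_dvd_prime_iff_eq hu ht).1 h1]; exact hPt)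
  have h1 := hA.map (MulAut.conj g).toMonoidHom (MulAut.conj g).injective
  refine ⟨_, h1.subgroupOf ?_⟩
  rintro _ ⟨a, ha, rfl⟩
  exact hg a ha

/-- `a` and `b` are powers of `a b` -/
theorem mem_zpowers_mul {G : Type*} [Group G] {r s : ℕ} (hr : r.Prime) (hs : s.Prime)
    (hrs : r ≠ s) {a b : G} (har : a ^ r = 1) (hbs : b ^ s = 1) (hab : a * b = b * a) :
    a ∈ Subgroup.zpowers (a * b) := by
  by_cases ha1 : a = 1
  · rw [ha1]; exact Subgroup.one_mem _
  have h1 : (a * b) ^ s = a ^ s := by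
    rw [(show Commute a b from hab).mul_pow, hbs, mul_one]
  have h2 : a ^ s ≠ 1 := by
    intro h
    have h3 := orderOf_dvd_of_pow_eq_one h
    rw [orderOf_eq_of_pow hr ha1 har] at h3
    exact hrs ((Nat.prime_dvd_prime_iff_eq hr hs).1 h3)
  have h3 : a ∈ Subgroup.zpowers (a ^ s) :=
    mem_zpowers_of_mem hr har (Subgroup.pow_mem _ (Subgroup.mem_zpowers a) s) h2
  have h4 : Subgroup.zpowers (a ^ s) ≤ Subgroup.zpowers (a * b) := by
    rw [Subgroup.zpowers_le, ← h1]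
    exact Subgroup.pow_mem _ (Subgroup.mem_zpowers _) s
  exact h4 h3

theorem joined_hall {G : Type*} [Group G] [Finite G] {P : ℕ → Prop} {L : Subgroup G}
    (hL : ∀ K : Subgroup G, (∀ t : ℕ, t.Prime → t ∣ Nat.card K → P t) →
        ∃ g : G, ∀ k ∈ K, g * k * g⁻¹ ∈ L) {r s : ℕ} (hr : r.Prime) (hPr : P r)
    (hs : s.Prime) (hPs : P s) (hrs : r ≠ s)
    (hj : ∃ a b : G, a ≠ 1 ∧ b ≠ 1 ∧ a ^ r = 1 ∧ b ^ s = 1 ∧ a * b = b * a) :
    ∃ a b : L, a ≠ 1 ∧ b ≠ 1 ∧ a ^ r = 1 ∧ b ^ s = 1 ∧ a * b = b * a := by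
  obtain ⟨a, b, ha1, hb1, har, hbs, hab⟩ := hj
  obtain ⟨g, hg⟩ := hL (Subgroup.zpowers (a * b)) (fun u hu hd => by
    have h1 : u ∣ r * s := by
      refine dvd_of_exp (n := r * s) ?_ hu hd
      rintro _ ⟨i, rfl⟩
      dsimp only
      have h2 : (a * b) ^ (r * s) = 1 := by
        rw [(show Commute a b from hab).mul_pow, pow_mul, har, one_pow, one_mul, mul_comm r,
          pow_mul, hbs, one_pow]
      rw [← zpow_natCast, ← zpow_mul, mul_comm, zpow_mul, zpow_natCast, h2, one_zpow]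
    rcases (Nat.Prime.dvd_mul hu).1 h1 with h2 | h2
    · rw [(Nat.prime_dvd_prime_iff_eq hu hr).1 h2]; exact hPr
    · rw [(Nat.prime_dvd_prime_iff_eq hu hs).1 h2]; exact hPs)
  have haK := mem_zpowers_mul hr hs hrs har hbs hab
  have hbK : b ∈ Subgroup.zpowers (a * b) := by
    rw [hab]
    exact mem_zpowers_mul hs hr hrs.symm hbs har hab.symm
  refine ⟨⟨_, hg a haK⟩, ⟨_, hg b hbK⟩, ?_, ?_, ?_, ?_, ?_⟩
  · intro h
    apply ha1
    have h1 : g * a * g⁻¹ = 1 := congrArg Subtype.val h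
    rw [mul_inv_eq_one] at h1
    exact mul_eq_left.1 h1
  · intro h
    apply hb1
    have h1 : g * b * g⁻¹ = 1 := congrArg Subtype.val h
    rw [mul_inv_eq_one] at h1
    exact mul_eq_left.1 h1
  · apply Subtype.ext
    change (g * a * g⁻¹) ^ r = 1
    rw [conj_pow, har]; group
  · apply Subtype.ext
    change (g * b * g⁻¹) ^ s = 1
    rw [conj_pow, hbs]; group
  · apply Subtype.ext
    change (g * a * g⁻¹) * (g * b * g⁻¹) = (g * b * g⁻¹) * (g * a * g⁻¹)
    calc (g * a * g⁻¹) * (g * b * g⁻¹) = g * (a * b) * g⁻¹ := by group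
      _ = g * (b * a) * g⁻¹ := by rw [hab]
      _ = _ := by group

/-- a `p'`-group acting faithfully and irreducibly -/
structure CfgB {H V : Type*} [Group H] [CommGroup V] (φ : H →* MulAut V) (P : Finset ℕ) :
    Prop where
  hP : ∀ t ∈ P, t.Prime
  hP3 : P.card = 3
  solv : Group.IsSolvable H
  hH : ∀ t : ℕ, t.Prime → t ∣ Nat.card H → t ∈ P
  cV : (Nat.card H).Coprime (Nat.card V)
  thick : ∀ t ∈ P, ∃ A : Subgroup H, EAb t A
  faithful : ∀ g : H, (∀ v, φ g v = v) → g = 1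
  irr : ∀ U : Subgroup V, (∀ g, ∀ u ∈ U, φ g u ∈ U) → U = ⊥ ∨ U = ⊤
  ntV : ∃ v : V, v ≠ 1
  TV : ∀ t ∈ P, ∀ u ∈ P, t ≠ u → ∀ a b : H, a ≠ 1 → b ≠ 1 → a ^ t = 1 → b ^ u = 1 →
    a * b = b * a → ∀ v, v ≠ 1 → φ a v = v → φ b v = v → False
  T3 : ∀ t ∈ P, ∀ u ∈ P, ∀ w ∈ P, t ≠ u → t ≠ w → u ≠ w → ∀ a b c : H, a ≠ 1 → b ≠ 1 → c ≠ 1 →
    a ^ t = 1 → b ^ u = 1 → c ^ w = 1 → a * b = b * a → a * c = c * a → b * c = c * b → False
  joined : ∀ t ∈ P, ∀ u ∈ P, t ≠ u → ∃ a b : H, a ≠ 1 ∧ b ≠ 1 ∧ a ^ t = 1 ∧ b ^ u = 1 ∧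
    a * b = b * a

namespace CfgB

variable {H V : Type*} [Group H] [Finite H] [CommGroup V] [Finite V]
  {φ : H →* MulAut V} {P : Finset ℕ}

theorem others (h : CfgB φ P) {q : ℕ} (hq : q ∈ P) :
    ∃ r s : ℕ, r ∈ P ∧ s ∈ P ∧ r ≠ s ∧ r ≠ q ∧ s ≠ q ∧ ∀ t ∈ P, t = q ∨ t = r ∨ t = s := by
  have h1 : (P.erase q).card = 2 := by rw [Finset.card_erase_of_mem hq, h.hP3]
  obtain ⟨r, s, hrs, hP⟩ := Finset.card_eq_two.1 h1
  have hr : r ∈ P.erase q := by rw [hP]; simp
  have hs : s ∈ P.erase q := by rw [hP]; simp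
  refine ⟨r, s, (Finset.mem_erase.1 hr).2, (Finset.mem_erase.1 hs).2, hrs,
    (Finset.mem_erase.1 hr).1, (Finset.mem_erase.1 hs).1, fun t ht => ?_⟩
  by_cases htq : t = q
  · exact Or.inl htq
  · right
    have : t ∈ P.erase q := Finset.mem_erase.2 ⟨htq, ht⟩
    rw [hP] at this
    simpa using this

/-- elements of the commutator group of two commuting elements -/
theorem P1 (h : CfgB φ P) {q r s : ℕ} (hq : q ∈ P) (hr : r ∈ P) (hs : s ∈ P) (hrs : r ≠ s)
    (hrq : r ≠ q) (hsq : s ≠ q) {Q0 : Subgroup H} (hQn : Q0.Normal) (hQ : EAb q Q0) {a b : H}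
    (ha1 : a ≠ 1) (hb1 : b ≠ 1) (har : a ^ r = 1) (hbs : b ^ s = 1) (hab : a * b = b * a) :
    ∀ w ∈ Q0, b * (a * w * a⁻¹ * w⁻¹) * b⁻¹ = a * w * a⁻¹ * w⁻¹ := by
  have hr' := h.hP r hr
  have hs' := h.hP s hs
  have hq' := h.hP q hq
  have haQ : ∀ w ∈ Q0, a * w * a⁻¹ ∈ Q0 := fun w hw => hQn.conj_mem w hw a
  have hbQ : ∀ w ∈ Q0, b * w * b⁻¹ ∈ Q0 := fun w hw => hQn.conj_mem w hw b
  obtain ⟨D, hD, -⟩ := exists_D hQ.comm haQ
  have hDQ : D ≤ Q0 := D_le haQ hD
  have hbD : ∀ d ∈ D, b * d * b⁻¹ ∈ D := D_conj hD hbQ hab.symm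
  have haD : ∀ d ∈ D, a * d * a⁻¹ ∈ D := D_conj hD haQ rfl
  obtain ⟨K, hK, -⟩ := exists_D (A := D) (b := b)
    (fun x hx y hy => hQ.comm x (hDQ hx) y (hDQ hy)) hbD
  have hKD : K ≤ D := D_le hbD hK
  have hbK : ∀ k ∈ K, b * k * b⁻¹ ∈ K := D_conj hK hbD rfl
  have haK : ∀ k ∈ K, a * k * a⁻¹ ∈ K := D_conj hK haD hab
  have hcQr : r.Coprime (Nat.card Q0) :=
    coprime_card_of_exp hq' ((Nat.coprime_primes hr' hq').2 hrq) hQ.exp
  have hcDs : s.Coprime (Nat.card D) :=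
    (coprime_card_of_exp hq' ((Nat.coprime_primes hs' hq').2 hsq) hQ.exp).coprime_dvd_right
      (Subgroup.card_dvd_of_le hDQ)
  have hcomm : Commute a b := hab
  have habn : (a * b) ^ (r * s) = 1 := by
    rw [hcomm.mul_pow, pow_mul, har, one_pow, one_mul, mul_comm r, pow_mul, hbs, one_pow]
  rcases frob_inv φ (⊤ : Subgroup V) (fun a _ b _ => mul_comm a b) K (a * b)
    (fun _ _ _ _ => trivial) (fun _ _ => trivial) (by
      intro k hk
      have h1 : a * b * k * (a * b)⁻¹ = a * (b * k * b⁻¹) * a⁻¹ := by group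
      rw [h1]
      exact haK _ (hbK k hk)) (Nat.mul_pos hr'.pos hs'.pos) habn (by
      intro k hk j hj0 hjn hck
      have hck' : Commute ((a * b) ^ j) k := hck
      by_cases hrj : r ∣ j
      · -- then `s` does not divide `j`
        have hsj : ¬ s ∣ j := by
          intro hsj
          have h1 : r * s ∣ j := Nat.Coprime.mul_dvd_of_dvd_of_dvd
            ((Nat.coprime_primes hr' hs').2 hrs) hrj hsj
          exact absurd (Nat.le_of_dvd hj0 h1) (not_le.2 hjn)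
        obtain ⟨i, rfl⟩ := hrj
        have h1 : (a * b) ^ (r * i) = b ^ (r * i) := by
          rw [hcomm.mul_pow, pow_mul, har, one_pow, one_mul]
        have h2 : b ^ (r * i) ≠ 1 := by
          intro h2
          have h3 := orderOf_dvd_of_pow_eq_one h2
          rw [orderOf_eq_of_pow hs' hb1 hbs] at h3
          exact hsj h3
        have h3 : k * b = b * k := commute_of_zpowers hs' hbs
          (Subgroup.pow_mem _ (Subgroup.mem_zpowers b) _) h2 (by rw [← h1]; exact hck'.symm.eq)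
        exact D_free hbD hbs hcDs hK hk h3.symm
      · have h1 : (a * b) ^ (j * s) = a ^ (j * s) := by
          rw [hcomm.mul_pow, mul_comm j s, pow_mul b, hbs, one_pow, mul_one]
        have h2 : a ^ (j * s) ≠ 1 := by
          intro h2
          have h3 := orderOf_dvd_of_pow_eq_one h2
          rw [orderOf_eq_of_pow hr' ha1 har] at h3
          rcases (Nat.Prime.dvd_mul hr').1 h3 with h4 | h4
          · exact hrj h4
          · exact hrs ((Nat.prime_dvd_prime_iff_eq hr' hs').1 h4)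
        have h3 : k * a = a * k := commute_of_zpowers hr' har
          (Subgroup.pow_mem _ (Subgroup.mem_zpowers a) _) h2 (by
            rw [← h1, pow_mul]; exact (hck'.pow_left s).symm.eq)
        exact D_free haQ har hcQr hD (hKD hk) h3.symm) (by
      rw [Subgroup.card_top]
      exact h.cV.coprime_dvd_left (Subgroup.card_subgroup_dvd_card K)) with h1 | ⟨v, -, hv1, hv⟩
  · intro w hw
    have h2 : b * (a * w * a⁻¹ * w⁻¹) * b⁻¹ * (a * w * a⁻¹ * w⁻¹)⁻¹ ∈ K :=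
      (hK _).2 ⟨_, (hD _).2 ⟨w, hw, rfl⟩, rfl⟩
    have h3 := h.faithful _ (fun v => h1 _ h2 v trivial)
    exact mul_inv_eq_one.1 h3
  · exfalso
    refine h.TV r hr s hs hrs a b ha1 hb1 har hbs hab v hv1 ?_ ?_
    · exact fix_zpow hv (mem_zpowers_mul hr' hs' hrs har hbs hab)
    · exact fix_zpow hv (by
        rw [hab]
        exact mem_zpowers_mul hs' hr' hrs.symm hbs har hab.symm)

theorem P2 (h : CfgB φ P) {q r : ℕ} (hq : q ∈ P) (hr : r ∈ P)
    (hrq : r ≠ q) {Q0 : Subgroup H} (hQn : Q0.Normal) (hQ : EAb q Q0) {x : H}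
    (hx1 : x ≠ 1) (hxr : x ^ r = 1) {D : Subgroup H} (hDQ : D ≤ Q0)
    (hDx : ∀ d ∈ D, x * d = d * x) (hDc : ¬ IsCyclic D) :
    (∀ w ∈ Q0, x * w = w * x) ∧ ∀ v, φ x v = v → v = 1 := by
  have hr' := h.hP r hr
  have hq' := h.hP q hq
  have hfix : ∀ v, φ x v = v → v = 1 := by
    intro v hv
    by_contra hv1
    obtain ⟨d, hd, hd1, u, hu, hu1, hdu⟩ := exists_fixed_of_not_cyclic φ (fixG φ x)
      (fun a _ b _ => mul_comm a b) (by
        intro hbot
        apply hv1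
        have : v ∈ fixG φ x := hv
        rwa [hbot, Subgroup.mem_bot] at this) D
      (fun a ha b hb => hQ.comm a (hDQ ha) b (hDQ hb)) hDc
      (fun a ha => fixG_invariant (hDx a ha))
    exact h.TV r hr q hq hrq x d hx1 hd1 hxr (hQ.exp d (hDQ hd)) (hDx d hd) u hu1 hu hdu
  refine ⟨?_, hfix⟩
  have hxQ : ∀ w ∈ Q0, x * w * x⁻¹ ∈ Q0 := fun w hw => hQn.conj_mem w hw x
  obtain ⟨K, hK, -⟩ := exists_D hQ.comm hxQ
  have hcQr : r.Coprime (Nat.card Q0) :=
    coprime_card_of_exp hq' ((Nat.coprime_primes hr' hq').2 hrq) hQ.exp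
  rcases frob_top φ h.cV K x (D_conj hK hxQ rfl) hr' hxr
    (fun k hk hxk => D_free hxQ hxr hcQr hK hk hxk) with h1 | ⟨v, hv1, hv⟩
  · intro w hw
    have h2 : x * w * x⁻¹ * w⁻¹ ∈ K := (hK _).2 ⟨w, hw, rfl⟩
    have h3 := h.faithful _ (h1 _ h2)
    rw [mul_inv_eq_one, mul_inv_eq_iff_eq_mul] at h3
    exact h3
  · exact absurd (hfix v hv) hv1

/-- there is no normal noncyclic elementary abelian subgroup -/
theorem case1 (h : CfgB φ P) {q : ℕ} (hq : q ∈ P) {Q0 : Subgroup H} (hQn : Q0.Normal)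
    (hQ : EAb q Q0) : False := by
  obtain ⟨r, s, hr, hs, hrs, hrq, hsq, hP⟩ := h.others hq
  have hr' := h.hP r hr
  have hs' := h.hP s hs
  have hq' := h.hP q hq
  have := h.solv
  obtain ⟨L, hL, hLc⟩ := exists_hall (G := H) (fun t => t = r ∨ t = s)
  let _ : CommGroup Q0 := { (inferInstance : Group Q0) with
    mul_comm := fun a b => Subtype.ext (hQ.comm a a.2 b b.2) }
  let ψ : L →* MulAut Q0 := (MulAut.conjNormal (H := Q0)).comp L.subtype
  have hψ : ∀ (x : L) (w : Q0), ((ψ x w : Q0) : H) = x * w * (x : H)⁻¹ := fun x w => rfl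
  have hB : CfgB1 (φ.comp L.subtype) ψ q r s := by
    refine
      { hq := hq'
        hr := hr'
        hs := hs'
        hrs := hrs
        solv := inferInstance
        hL := hL
        cV := h.cV.coprime_dvd_left (Subgroup.card_subgroup_dvd_card L)
        cQ := ?_
        thr := EAb_hall hLc hr' (Or.inl rfl) (h.thick r hr)
        ths := EAb_hall hLc hs' (Or.inr rfl) (h.thick s hs)
        joined := joined_hall hLc hr' (Or.inl rfl) hs' (Or.inr rfl) hrs (h.joined r hr s hs hrs)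
        TQ := ?_
        P1 := ?_
        P2 := ?_
        Qexp := fun w => Subtype.ext (hQ.exp w w.2)
        Qnc := hQ.nc
        ntV := h.ntV }
    · rw [Nat.coprime_iff_gcd_eq_one]
      by_contra hc
      obtain ⟨t, ht, hd⟩ := Nat.exists_prime_and_dvd hc
      have h1 := hL t ht (hd.trans (Nat.gcd_dvd_left _ _))
      have h2 : t = q := (Nat.prime_dvd_prime_iff_eq ht hq').1
        (dvd_of_exp hQ.exp ht (hd.trans (Nat.gcd_dvd_right _ _)))
      rcases h1 with h1 | h1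
      · exact hrq (h1.symm.trans h2)
      · exact hsq (h1.symm.trans h2)
    · intro a b ha1 hb1 har hbs hab v hv hav hbv
      refine h.T3 r hr s hs q hq hrs hrq hsq a b v (fun h => ha1 (Subtype.ext h))
        (fun h => hb1 (Subtype.ext h)) (fun h => hv (Subtype.ext h))
        (congrArg Subtype.val har) (congrArg Subtype.val hbs) (hQ.exp v v.2)
        (congrArg Subtype.val hab) ?_ ?_
      · have h1 := congrArg Subtype.val hav
        rw [hψ] at h1
        exact mul_inv_eq_iff_eq_mul.1 h1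
      · have h1 := congrArg Subtype.val hbv
        rw [hψ] at h1
        exact mul_inv_eq_iff_eq_mul.1 h1
    · intro a b ha1 hb1 har hbs hab w
      apply Subtype.ext
      have := h.P1 hq hr hs hrs hrq hsq hQn hQ (a := a) (b := b) (fun h => ha1 (Subtype.ext h))
        (fun h => hb1 (Subtype.ext h)) (congrArg Subtype.val har) (congrArg Subtype.val hbs)
        (congrArg Subtype.val hab) w w.2
      exact this
    · intro x hx1 hx hc
      obtain ⟨t, ht, htq, hxt⟩ : ∃ t ∈ P, t ≠ q ∧ x ^ t = 1 := by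
        rcases hx with hx | hx
        · exact ⟨r, hr, hrq, hx⟩
        · exact ⟨s, hs, hsq, hx⟩
      have h1 := h.P2 hq ht htq hQn hQ (x := x) (D := (fixG ψ x).map Q0.subtype)
        (fun h => hx1 (Subtype.ext h)) (congrArg Subtype.val hxt) (by
          rintro _ ⟨d, -, rfl⟩
          exact d.2) (by
          rintro _ ⟨d, hd, rfl⟩
          have h1 := congrArg Subtype.val (mem_fixG.1 hd)
          rw [hψ] at h1
          exact mul_inv_eq_iff_eq_mul.1 h1) (by
          intro hcc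
          apply hc
          exact (MulEquiv.isCyclic ((fixG ψ x).equivMapOfInjective Q0.subtype
            Q0.subtype_injective)).2 hcc)
      refine ⟨fun w => ?_, h1.2⟩
      apply Subtype.ext
      rw [hψ, h1.1 w w.2, mul_inv_cancel_right]
  exact hB.false

end CfgB

end Cfsg.Agent.H456
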