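import Cfsg.Agent.H456.FixHalf2
import Cfsg.Agent.PLocal.HHBLinear

set_option autoImplicit false

/-!
S3818, the case of a noncentral abelian normal subgroup.
-/

namespace Cfsg.Agent.H456

open Cfsg.Agent.PLocal.HHBLinear

variable {K : Type*} [Field K] {V : Type*} [AddCommGroup V] [Module K V] {G : Type*} [Group G]

/-- commuting operators have a common eigenvector -/
theorem exists_common_eigenvector [IsAlgClosed K] [FiniteDimensional K V] [Nontrivial V]
    (ρ : G →* Module.End K V) (A : Subgroup G) (hA : ∀ a ∈ A, ∀ b ∈ A, a * b = b * a) :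
    ∃ v : V, v ≠ 0 ∧ ∀ a ∈ A, ∃ c : K, ρ a v = c • v := by
  have hwf : WellFounded ((· < ·) : Submodule K V → Submodule K V → Prop) := wellFounded_lt
  let s : Set (Submodule K V) := {U | U ≠ ⊥ ∧ ∀ a ∈ A, ∀ v ∈ U, ρ a v ∈ U}
  have hs : s.Nonempty := ⟨⊤, top_ne_bot, fun _ _ _ _ => trivial⟩
  obtain ⟨U, ⟨hU0, hUA⟩, hUmin⟩ := hwf.has_min s hs
  have hscal : ∀ a ∈ A, ∃ c : K, ∀ v ∈ U, ρ a v = c • v := by
    intro a ha
    have : Nontrivial U := Submodule.nontrivial_iff_ne_bot.2 hU0
    obtain ⟨c, hc⟩ := Module.End.exists_eigenvalue ((ρ a).restrict (hUA a ha))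
    obtain ⟨u, hu⟩ := hc.exists_hasEigenvector
    refine ⟨c, ?_⟩
    have hU' : U ⊓ Module.End.eigenspace (ρ a) c ∈ s := by
      refine ⟨?_, ?_⟩
      · intro h
        apply hu.2
        have h1 : (u : V) ∈ U ⊓ Module.End.eigenspace (ρ a) c := by
          refine ⟨u.2, ?_⟩
          rw [SetLike.mem_coe, Module.End.mem_eigenspace_iff]
          have := hu.1
          rw [Module.End.mem_eigenspace_iff] at this
          exact congrArg Subtype.val this
        rw [h, Submodule.mem_bot] at h1
        exact Subtype.ext h1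
      · rintro b hb v ⟨hv1, hv2⟩
        refine ⟨hUA b hb v hv1, ?_⟩
        rw [SetLike.mem_coe, Module.End.mem_eigenspace_iff] at hv2 ⊢
        calc ρ a (ρ b v) = ρ (a * b) v := by rw [map_mul]; rfl
          _ = ρ b (ρ a v) := by rw [hA a ha b hb, map_mul]; rfl
          _ = c • ρ b v := by rw [hv2, map_smul]
    have h2 : ¬ U ⊓ Module.End.eigenspace (ρ a) c < U := hUmin _ hU'
    have h3 : U ⊓ Module.End.eigenspace (ρ a) c = U := by
      by_contra h
      exact h2 (lt_of_le_of_ne inf_le_left h)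
    intro v hv
    rw [← h3] at hv
    exact Module.End.mem_eigenspace_iff.1 hv.2
  obtain ⟨v, hv, hv0⟩ := Submodule.exists_mem_ne_zero_of_ne_bot hU0
  refine ⟨v, hv0, fun a ha => ?_⟩
  obtain ⟨c, hc⟩ := hscal a ha
  exact ⟨c, hc v hv⟩

/-- A system of orthogonal idempotents permuted by `G` bounds the fixed space of `x`. -/
theorem finrank_fixed_of_blocks [FiniteDimensional K V] [Finite G] [Group.IsSolvable G]
    (ρ : G →* Module.End K V) {p : ℕ} (hp : p.Prime) {x : G} (hx : x ^ p = 1)
    (hgen : Subgroup.normalClosure {x} = ⊤) (S : Subgroup G) (hS : S ≠ ⊤)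
    (E : G ⧸ S → Module.End K V)
    (hcov : ∀ (g : G) (q : G ⧸ S), ρ g * E q = E (g • q) * ρ g)
    (hidem : ∀ q, E q * E q = E q) (horth : ∀ q r, q ≠ r → E q * E r = 0)
    (hsum : ∀ v : V, (∀ q, E q v = 0) → v = 0) :
    p ^ 2 * Module.finrank K (LinearMap.ker (ρ x - 1)) ≤ (2 * p - 1) * Module.finrank K V := by
  classical
  have : Fintype (G ⧸ S) := Fintype.ofFinite _
  set q0 : G ⧸ S := ((1 : G) : G ⧸ S) with hq0
  set W : Submodule K V := LinearMap.range (E q0) with hW
  have hinv : ∀ g : G, ρ g * ρ g⁻¹ = 1 := fun g => by rw [← map_mul, mul_inv_cancel, map_one]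
  have hinv' : ∀ g : G, ρ g⁻¹ * ρ g = 1 := fun g => by rw [← map_mul, inv_mul_cancel, map_one]
  have hout : ∀ q : G ⧸ S, q.out • q0 = q := by
    intro q
    rw [hq0, MulAction.Quotient.smul_coe, smul_eq_mul, mul_one]
    exact QuotientGroup.out_eq' q
  have hEq : ∀ q : G ⧸ S, ρ q.out * E q0 = E q * ρ q.out := by
    intro q
    rw [hcov, hout]
  -- the dimension of `V`
  have hdimV : Fintype.card (G ⧸ S) * Module.finrank K W ≤ Module.finrank K V := by
    apply le_finrank_of_indep (fun q : G ⧸ S => (ρ q.out) ∘ₗ W.subtype)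
    intro w hw
    funext q
    obtain ⟨w', hw'⟩ : ∃ w', E q0 w' = (w q : V) := (w q).2
    have hterm : ∀ r : G ⧸ S, E q (ρ r.out (w r : V)) =
        if r = q then ρ q.out (w q : V) else 0 := by
      intro r
      obtain ⟨u, hu⟩ : ∃ u, E q0 u = (w r : V) := (w r).2
      have h1 : ρ r.out (w r : V) = E r (ρ r.out u) := by
        rw [← hu]; exact LinearMap.congr_fun (hEq r) u
      split_ifs with h
      · subst h
        rw [h1]
        exact LinearMap.congr_fun (hidem r) _
      · rw [h1]
        exact LinearMap.congr_fun (horth q r (Ne.symm h)) _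
    have h2 : E q (∑ r : G ⧸ S, ρ r.out (w r : V)) = ρ q.out (w q : V) := by
      rw [map_sum, Finset.sum_congr rfl (fun r _ => hterm r)]
      simp
    have h3 : (∑ r : G ⧸ S, ρ r.out (w r : V)) = 0 := by
      simpa using hw
    rw [h3, map_zero] at h2
    have h4 : (w q : V) = 0 := by
      have h5 : ρ (q.out)⁻¹ (ρ q.out (w q : V)) = (w q : V) :=
        LinearMap.congr_fun (hinv' q.out) (w q : V)
      rw [← h5, ← h2, map_zero]
    exact Subtype.ext h4
  -- the permutation
  let σ : Equiv.Perm (G ⧸ S) := MulAction.toPerm x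
  have hσapp : ∀ q, σ q = x • q := fun q => rfl
  have hσpow : ∀ (n : ℕ) q, (σ ^ n) q = x ^ n • q := by
    intro n
    induction n with
    | zero => intro q; simp
    | succ n ih => intro q; rw [pow_succ, Equiv.Perm.mul_apply, ih, hσapp, pow_succ, mul_smul]
  have hσ : σ ^ p = 1 := by
    ext q
    rw [hσpow, hx, one_smul]; rfl
  obtain ⟨R, hRne, hRcard, hR⟩ := exists_transversal σ hp hσ
  set Fx := Finset.univ.filter (fun i => σ i = i) with hFx
  -- fixed points
  have hfix : p * Fx.card ≤ Fintype.card (G ⧸ S) := by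
    have h1 := card_conj_mem_le hp hx hgen hS
    have h2 : Nat.card {g : G // g⁻¹ * x * g ∈ S} = Nat.card S * Fx.card := by
      have h3 := Nat.card_congr (QuotientGroup.preimageMkEquivSubgroupProdSet S (Fx : Set (G ⧸ S)))
      rw [Nat.card_prod, Nat.card_eq_card_toFinset (Fx : Set (G ⧸ S)), Finset.toFinset_coe] at h3
      rw [← h3]
      apply Nat.card_congr
      refine Equiv.subtypeEquivRight (fun g => ?_)
      rw [Set.mem_preimage, Finset.mem_coe, hFx, Finset.mem_filter, hσapp,
        MulAction.Quotient.smul_coe, smul_eq_mul, eq_comm, QuotientGroup.eq]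
      simp [mul_assoc]
    rw [h2, Subgroup.card_eq_card_quotient_mul_card_subgroup S, Nat.card_eq_fintype_card
      (α := G ⧸ S)] at h1
    have h4 : 0 < Nat.card S := Nat.card_pos
    have h5 : (p * Fx.card) * Nat.card S ≤ Fintype.card (G ⧸ S) * Nat.card S := by
      calc (p * Fx.card) * Nat.card S = p * (Nat.card S * Fx.card) := by ring
        _ ≤ _ := h1
    exact Nat.le_of_mul_le_mul_right h5 h4
  -- the dimension of the fixed space
  have hdimC : Module.finrank K (LinearMap.ker (ρ x - 1)) ≤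
      (R ∪ Fx).card * Module.finrank K W := by
    apply finrank_le_of_separating (W := fun _ : G ⧸ S => W) (R ∪ Fx)
      (fun q => ((E q0).rangeRestrict ∘ₗ (ρ (q.out)⁻¹)) ∘ₗ
        (LinearMap.ker (ρ x - 1)).subtype) (fun _ _ => le_rfl)
    rintro ⟨v, hv⟩ hv0
    have hxv : ρ x v = v := by
      rw [LinearMap.mem_ker, LinearMap.sub_apply, Module.End.one_apply, sub_eq_zero] at hv
      exact hv
    have hxnv : ∀ n : ℕ, ρ (x ^ n) v = v := by
      intro n
      induction n with
      | zero => simp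
      | succ n ih => rw [pow_succ, map_mul, Module.End.mul_apply, hxv, ih]
    have hE : ∀ q ∈ R ∪ Fx, E q v = 0 := by
      intro q hq
      have h1 := congrArg Subtype.val (hv0 q hq)
      have h2 : E q0 (ρ (q.out)⁻¹ v) = 0 := h1
      have h3 : E q v = ρ q.out (E q0 (ρ (q.out)⁻¹ v)) := by
        have h4 : ρ q.out * E q0 * ρ (q.out)⁻¹ = E q := by
          rw [hEq, mul_assoc, hinv, mul_one]
        rw [← h4]; rfl
      rw [h3, h2, map_zero]
    have hE' : ∀ q, E q v = 0 := by
      intro q
      by_cases hq : σ q = q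
      · exact hE q (Finset.mem_union_right _ (by rw [hFx]; simp [hq]))
      · obtain ⟨r, hr, n, hn⟩ := hR q hq
        rw [hσpow] at hn
        have h1 : E q v = ρ (x ^ n) (E r v) := by
          have h2 := LinearMap.congr_fun (hcov (x ^ n) r) v
          rw [hn] at h2
          simp only [Module.End.mul_apply] at h2
          rw [hxnv] at h2
          exact h2.symm
        rw [h1, hE r (Finset.mem_union_left _ hr), map_zero]
    exact Subtype.ext (hsum v hE')
  have hdisj : Disjoint R Fx := by
    rw [Finset.disjoint_left]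
    intro i hi hi'
    rw [hFx, Finset.mem_filter] at hi'
    exact hRne i hi hi'.2
  rw [Finset.card_union_of_disjoint hdisj] at hdimC
  set d := Module.finrank K W
  set X := Fintype.card (G ⧸ S)
  set D := Module.finrank K V
  have hp1 : 1 ≤ p := hp.one_le
  obtain ⟨t, ht⟩ : ∃ t, p = t + 1 := ⟨p - 1, by omega⟩
  have h1 : p ^ 2 * (R.card + Fx.card) ≤ (2 * p - 1) * X := by
    have e1 : p * (p * R.card + Fx.card) = p * X := by rw [hRcard]
    have e2 : (p - 1) * (p * Fx.card) ≤ (p - 1) * X := Nat.mul_le_mul_left _ hfix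
    have e3 : 2 * p - 1 = p + (p - 1) := by omega
    rw [e3, ht] at *
    simp only [Nat.add_sub_cancel] at *
    nlinarith
  calc p ^ 2 * Module.finrank K (LinearMap.ker (ρ x - 1)) ≤
      p ^ 2 * ((R.card + Fx.card) * d) := Nat.mul_le_mul_left _ hdimC
    _ = (p ^ 2 * (R.card + Fx.card)) * d := by ring
    _ ≤ ((2 * p - 1) * X) * d := Nat.mul_le_mul_right _ h1
    _ = (2 * p - 1) * (X * d) := by ring
    _ ≤ (2 * p - 1) * D := Nat.mul_le_mul_left _ hdimV

/-- the case of a noncentral abelian normal subgroup -/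
theorem finrank_fixed_of_abelian_normal [IsAlgClosed K] [FiniteDimensional K V] [Nontrivial V]
    [Finite G] [Group.IsSolvable G]
    (ρ : G →* Module.End K V) (hirr : IsIrr ρ) (hfaith : Function.Injective ρ)
    {p : ℕ} (hp : p.Prime) {x : G} (hx : x ^ p = 1)
    (hgen : Subgroup.normalClosure {x} = ⊤) (A : Subgroup G) [hAn : A.Normal]
    (hA : ∀ a ∈ A, ∀ b ∈ A, a * b = b * a) (hAc : ¬ A ≤ Subgroup.center G)
    (hchar : (Nat.card A : K) ≠ 0) :
    p ^ 2 * Module.finrank K (LinearMap.ker (ρ x - 1)) ≤ (2 * p - 1) * Module.finrank K V := by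
  classical
  have : Fintype A := Fintype.ofFinite A
  rw [Nat.card_eq_fintype_card] at hchar
  obtain ⟨v, hv0, hv⟩ := exists_common_eigenvector ρ A hA
  choose! lam0 hlam0 using hv
  let lam : A → K := fun a => lam0 a
  have hlam : ∀ a : A, ρ a v = lam a • v := fun a => hlam0 a a.2
  have hvinj : ∀ c d : K, c • v = d • v → c = d := fun c d h => smul_left_injective K hv0 h
  have hlam1 : lam 1 = 1 := by
    apply hvinj
    rw [← hlam, one_smul]; simp
  have hlammul : ∀ a b : A, lam (a * b) = lam a * lam b := by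
    intro a b
    apply hvinj
    rw [← hlam, Subgroup.coe_mul, map_mul, Module.End.mul_apply, hlam b, map_smul, hlam a,
      smul_smul, mul_comm]
  let c : G → A → A := fun g a => MulAut.conjNormal g⁻¹ a
  have hc1 : ∀ a, c 1 a = a := by
    intro a
    change MulAut.conjNormal (1 : G)⁻¹ a = a
    rw [inv_one, map_one]; rfl
  have hcmul : ∀ g h a, c (g * h) a = c h (c g a) := by
    intro g h a
    simp only [c, mul_inv_rev, map_mul, MulAut.mul_apply]
  have hcmap : ∀ g a b, c g (a * b) = c g a * c g b := fun g a b => map_mul _ _ _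
  have hcinv : ∀ g a, c g a⁻¹ = (c g a)⁻¹ := fun g a => map_inv _ _
  have hcone : ∀ g, c g 1 = 1 := fun g => map_one _
  let n : K := (Fintype.card A : K)
  -- the idempotents
  let e : G → Module.End K V := fun g => n⁻¹ • ∑ a : A, lam (c g a⁻¹) • ρ a
  have hleft : ∀ (b : A) (g : G), ρ b * e g = lam (c g b) • e g := by
    intro b g
    simp only [e]
    rw [mul_smul_comm, smul_comm (lam (c g b)) n⁻¹]
    congr 1
    rw [Finset.mul_sum, Finset.smul_sum]
    rw [← Equiv.sum_comp (Equiv.mulLeft b⁻¹) (fun a : A => (ρ b) * (lam (c g a⁻¹) • ρ a))]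
    apply Finset.sum_congr rfl
    intro a _
    rw [Equiv.coe_mulLeft, mul_smul_comm, ← map_mul, smul_smul, ← hlammul, ← hcmap,
      mul_inv_rev, inv_inv]
    congr 2
    · have : a⁻¹ * b = b * a⁻¹ := Subtype.ext (hA _ (a⁻¹).2 _ b.2)
      rw [this]
    · simp
  have hcov : ∀ g h, ρ g * e h = e (g * h) * ρ g := by
    intro g h
    simp only [e]
    rw [mul_smul_comm, smul_mul_assoc, Finset.mul_sum, Finset.sum_mul]
    congr 1
    rw [← Equiv.sum_comp (MulAut.conjNormal (H := A) g).toEquiv
      (fun a : A => (lam (c (g * h) a⁻¹) • ρ a) * ρ g)]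
    apply Finset.sum_congr rfl
    intro a _
    rw [mul_smul_comm, smul_mul_assoc, hcmul, ← map_mul, ← map_mul]
    have h1 : c g ((MulAut.conjNormal (H := A) g).toEquiv a)⁻¹ = a⁻¹ := by
      rw [hcinv]
      congr 1
      apply Subtype.ext
      simp only [c, MulEquiv.toEquiv_eq_coe, MulEquiv.coe_toEquiv, MulAut.conjNormal_apply]
      group
    rw [h1]
    congr 2
    simp only [MulEquiv.toEquiv_eq_coe, MulEquiv.coe_toEquiv, MulAut.conjNormal_apply]
    group
  have hn0 : n ≠ 0 := hchar
  have hprod : ∀ g h, e g * e h = (n⁻¹ * ∑ a : A, lam (c g a⁻¹ * c h a)) • e h := by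
    intro g h
    conv_lhs => simp only [e]
    change (n⁻¹ • ∑ a : A, lam (c g a⁻¹) • ρ a) * e h = _
    rw [smul_mul_assoc, Finset.sum_mul, mul_smul, Finset.sum_smul]
    congr 1
    apply Finset.sum_congr rfl
    intro a _
    rw [smul_mul_assoc, hleft, smul_smul, hlammul]
  let S : Subgroup G :=
    { carrier := {g | ∀ a, lam (c g a) = lam a}
      one_mem' := fun a => by rw [hc1]
      mul_mem' := by
        intro g h hg hh a
        rw [hcmul, hh, hg]
      inv_mem' := by
        intro g hg a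
        have h1 := hg (c g⁻¹ a)
        rw [← hcmul, inv_mul_cancel, hc1] at h1
        exact h1.symm }
  have hSmem : ∀ g, g ∈ S ↔ ∀ a, lam (c g a) = lam a := fun g => Iff.rfl
  have heq : ∀ g h, g ∈ S → e (h * g) = e h := by
    intro g h hg
    simp only [e]
    congr 1
    apply Finset.sum_congr rfl
    intro a _
    rw [hcmul, (hSmem g).1 hg]
  have hesq : ∀ g, e g * e g = e g := by
    intro g
    rw [hprod]
    have h1 : ∀ a : A, lam (c g a⁻¹ * c g a) = 1 := by
      intro a
      rw [← hcmap, inv_mul_cancel, hcone, hlam1]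
    rw [Finset.sum_congr rfl (fun a _ => h1 a)]
    simp only [Finset.sum_const, Finset.card_univ, nsmul_eq_mul, mul_one]
    rw [inv_mul_cancel₀ hn0, one_smul]
  have hezero : ∀ g h, g⁻¹ * h ∉ S → e g * e h = 0 := by
    intro g h hgh
    rw [hprod]
    have h1 : ∃ b, lam (c g b⁻¹ * c h b) ≠ 1 := by
      by_contra hcon
      push Not at hcon
      apply hgh
      rw [hSmem]
      intro a
      rw [hcmul]
      have h2 := hcon (c g⁻¹ a)
      rw [hlammul, hcinv, ← hcmul, inv_mul_cancel, hc1] at h2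
      have h3 : lam a * lam a⁻¹ = 1 := by rw [← hlammul, mul_inv_cancel, hlam1]
      calc lam (c h (c g⁻¹ a)) = (lam a * lam a⁻¹) * lam (c h (c g⁻¹ a)) := by rw [h3, one_mul]
        _ = lam a * (lam a⁻¹ * lam (c h (c g⁻¹ a))) := by ring
        _ = lam a := by rw [h2, mul_one]
    obtain ⟨b, hb⟩ := h1
    have hmul : ∀ a b : A, lam (c g (a * b)⁻¹ * c h (a * b)) =
        lam (c g a⁻¹ * c h a) * lam (c g b⁻¹ * c h b) := by
      intro a b
      rw [mul_inv_rev, hcmap, hcmap, hlammul, hlammul, hlammul, hlammul, hlammul]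
      ring
    have h2 : ∑ a : A, lam (c g a⁻¹ * c h a) = 0 := by
      have h3 : (∑ a : A, lam (c g a⁻¹ * c h a)) * lam (c g b⁻¹ * c h b) =
          ∑ a : A, lam (c g a⁻¹ * c h a) := by
        rw [Finset.sum_mul, ← Equiv.sum_comp (Equiv.mulRight b)
          (fun a : A => lam (c g a⁻¹ * c h a))]
        apply Finset.sum_congr rfl
        intro a _
        rw [Equiv.coe_mulRight, hmul]
      have h4 : (∑ a : A, lam (c g a⁻¹ * c h a)) * (lam (c g b⁻¹ * c h b) - 1) = 0 := by
        rw [mul_sub, h3, mul_one, sub_self]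
      exact (mul_eq_zero.1 h4).resolve_right (sub_ne_zero.2 hb)
    rw [h2, mul_zero, zero_smul]
  have hev : e 1 v = v := by
    simp only [e, hc1, LinearMap.smul_apply, LinearMap.sum_apply]
    have h1 : ∀ a : A, lam a⁻¹ • ρ a v = v := by
      intro a
      rw [hlam, smul_smul, ← hlammul, inv_mul_cancel, hlam1, one_smul]
    rw [Finset.sum_congr rfl (fun a _ => h1 a)]
    simp only [Finset.sum_const, Finset.card_univ]
    rw [← Nat.cast_smul_eq_nsmul K, smul_smul, inv_mul_cancel₀ hn0, one_smul]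
  have hS : S ≠ ⊤ := by
    intro hS
    apply hAc
    have h1 : ∀ g, e g = e 1 := by
      intro g
      have := heq g 1 (by rw [hS]; trivial)
      rwa [one_mul] at this
    obtain ⟨d, hd⟩ := schur hirr (e 1) (by
      intro g
      have := hcov g 1
      rw [mul_one, h1 g] at this
      exact this.symm)
    have hd0 : d ≠ 0 := by
      intro h
      rw [h, zero_smul] at hd
      rw [hd] at hev
      exact hv0 hev.symm
    have h2 : ∀ a : A, ρ a = lam a • 1 := by
      intro a
      have h3 := hleft a 1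
      rw [hd, hc1, mul_smul_comm, mul_one, smul_comm] at h3
      exact smul_right_injective _ hd0 h3
    intro a ha
    rw [Subgroup.mem_center_iff]
    intro g
    apply hfaith
    rw [map_mul, map_mul, h2 ⟨a, ha⟩, mul_smul_comm, smul_mul_assoc, mul_one, one_mul]
  -- the system indexed by `G ⧸ S`
  let E : G ⧸ S → Module.End K V := fun q => e q.out
  have hEmk : ∀ g : G, E (g : G ⧸ S) = e g := by
    intro g
    obtain ⟨h, hh⟩ := QuotientGroup.mk_out_eq_mul S g
    simp only [E]
    rw [hh, heq _ _ h.2]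
  have hEout : ∀ (g : G) (q : G ⧸ S), E (g • q) = e (g * q.out) := by
    intro g q
    rw [← hEmk]
    congr 1
    conv_lhs => rw [← QuotientGroup.out_eq' q]
    rfl
  have hEcov : ∀ (g : G) (q : G ⧸ S), ρ g * E q = E (g • q) * ρ g := by
    intro g q
    rw [hEout]
    exact hcov _ _
  have hEid : ∀ q, E q * E q = E q := fun q => hesq _
  have hEorth : ∀ q r : G ⧸ S, q ≠ r → E q * E r = 0 := by
    intro q r hqr
    apply hezero
    intro h
    apply hqr
    rw [← QuotientGroup.out_eq' q, ← QuotientGroup.out_eq' r]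
    exact QuotientGroup.eq.2 h
  apply finrank_fixed_of_blocks ρ hp hx hgen S hS E hEcov hEid hEorth
  -- the sum is the identity
  have : Fintype (G ⧸ S) := Fintype.ofFinite _
  obtain ⟨d, hd⟩ := schur hirr (∑ q : G ⧸ S, E q) (by
    intro g
    rw [Finset.mul_sum, Finset.sum_mul, ← Equiv.sum_comp (MulAction.toPerm g)
      (fun q : G ⧸ S => E q * ρ g)]
    apply Finset.sum_congr rfl
    intro q _
    exact (hEcov g q).symm)
  have hd1 : d = 1 := by
    have h1 : (∑ q : G ⧸ S, E q) * E ((1 : G) : G ⧸ S) = E ((1 : G) : G ⧸ S) := by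
      rw [Finset.sum_mul, Finset.sum_eq_single ((1 : G) : G ⧸ S)]
      · exact hEid _
      · intro q _ hq
        exact hEorth _ _ hq
      · intro h; exact absurd (Finset.mem_univ _) h
    rw [hd, hEmk, smul_mul_assoc, one_mul] at h1
    have h2 := LinearMap.congr_fun h1 v
    rw [LinearMap.smul_apply, hev] at h2
    apply hvinj
    rw [h2, one_smul]
  intro w hw
  have h1 : (∑ q : G ⧸ S, E q) w = w := by rw [hd, hd1, one_smul]; rfl
  rw [← h1, LinearMap.sum_apply]
  exact Finset.sum_eq_zero (fun q _ => hw q)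

end Cfsg.Agent.H456
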