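import Mathlib
import Cfsg.Agent.H456.PrimTwoA
import Cfsg.Agent.H559.NotLong

/-!
# Task 1105 (S3574): groups with long `SL₂(q)` (copied from `H559.NotLong.not_long`, with another hypothesis)
-/

set_option autoImplicit false
set_option linter.unusedSectionVars false

namespace Cfsg.Agent.H456.PrimTwo

open Subgroup Cfsg Cfsg.Agent.H584.NC Cfsg.Agent.Cit.LongAbs Cfsg.Agent.Cit.LongSL3
  Cfsg.Agent.SignalizersComponents Cfsg.Agent.SignalizersComponents.Components Cfsg.Agent.H559.NotLong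

universe u

theorem CT.exists_z' {S : Type u} [Group S] [Finite S] (h : CT S) :
    ∃ (z : S) (Q : Sylow 2 S), orderOf z = 2 ∧ z ∈ Q ∧ (∀ x ∈ Q, z * x = x * z) ∧
      NC (centralizer ({z} : Set S)) := by
  obtain ⟨z, Q, hz, hc, -⟩ := h.ex
  refine ⟨z, Q, hz, ?_, ?_, ?_⟩
  · change z ∈ (Q : Subgroup S)
    rw [← hc, mem_centralizer_singleton_iff]
  · intro x hx
    have h1 : x ∈ (Q : Subgroup S) := hx
    rw [← hc, mem_centralizer_singleton_iff] at h1
    exact h1.symm
  · rw [hc]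
    exact NC_of_isPGroup Q.isPGroup'

theorem not_long {S : Type u} [Group S] [Finite S] (h : CT S) {q : ℕ} :
    ¬ Cfsg.Agent.OddHalf.LongSL.HasLong q S := by
  rintro ⟨j, J, hj, hjJ, hJD, hsub, F, i1, i2, hF, ho, ⟨e⟩⟩
  rw [← hF] at ho
  have f2 : Fact (Nat.Prime 2) := ⟨Nat.prime_two⟩
  set D : Subgroup S := centralizer ({j} : Set S) with hD
  -- an involution commuting with a given Sylow `2`-subgroup of `D`
  have hP : ∀ P : Sylow 2 D, ∃ z : D, z * z = 1 ∧ (∀ y ∈ P, z * y = y * z) ∧ NC (centralizer ({z} : Set D)) := by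
    intro P
    obtain ⟨z0, Q, hz0, hz0Q, hcomm, hNC⟩ := h.exists_z'
    obtain ⟨Q', hQ'⟩ := (P.isPGroup'.map D.subtype).exists_le_sylow
    obtain ⟨g, hg⟩ := MulAction.exists_smul_eq S Q Q'
    have hjP : (⟨j, hJD hjJ⟩ : D) ∈ (P : Subgroup D) := by
      have h1 : zpowers (⟨j, hJD hjJ⟩ : D) ≤ pCore 2 D := by
        apply Cfsg.Agent.PLocal.SubnormalCore.le_pCore_of_isSubnormal
        · have hn : (zpowers (⟨j, hJD hjJ⟩ : D)).Normal := by
            refine ⟨fun x hx g => ?_⟩
            obtain ⟨n, rfl⟩ := mem_zpowers_iff.1 hx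
            have h2 : Commute g (⟨j, hJD hjJ⟩ : D) := Subtype.ext (mem_centralizer_singleton_iff.1 g.2)
            rw [(h2.zpow_right n).eq, mul_inv_cancel_right]
            exact mem_zpowers_iff.2 ⟨n, rfl⟩
          exact hn.isSubnormal
        · exact IsPGroup.of_card (n := 1) (by rw [Nat.card_zpowers, Subgroup.orderOf_mk, hj, pow_one])
      exact Cfsg.Agent.Lib.Cores.pCore_le_sylow P (h1 (mem_zpowers _))
    have hQcomm : ∀ y ∈ Q', (g * z0 * g⁻¹) * y = y * (g * z0 * g⁻¹) := by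
      intro y hy
      have h1 : g⁻¹ * y * g ∈ Q := by
        have h2 : y ∈ (Q' : Subgroup S) := hy
        rw [← hg, Sylow.coe_subgroup_smul, Subgroup.mem_pointwise_smul_iff_inv_smul_mem] at h2
        have h3 : ((MulAut.conj g)⁻¹ • y : S) = g⁻¹ * y * g := by
          change (MulAut.conj g)⁻¹ y = _
          rw [← map_inv, MulAut.conj_apply, inv_inv]
        rw [h3] at h2
        exact h2
      have h2 := hcomm _ h1
      calc (g * z0 * g⁻¹) * y = g * (z0 * (g⁻¹ * y * g)) * g⁻¹ := by group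
        _ = g * ((g⁻¹ * y * g) * z0) * g⁻¹ := by rw [h2]
        _ = _ := by group
    have hzD : g * z0 * g⁻¹ ∈ D := by
      rw [hD, mem_centralizer_singleton_iff]
      exact hQcomm j (hQ' ⟨⟨j, hJD hjJ⟩, hjP, rfl⟩)
    have hNC' : NC (centralizer ({g * z0 * g⁻¹} : Set S)) := by
      have h1 : (centralizer ({z0} : Set S)).map (MulAut.conj g).toMonoidHom = centralizer ({g * z0 * g⁻¹} : Set S) := by
        ext y
        rw [mem_map_equiv, mem_centralizer_singleton_iff, mem_centralizer_singleton_iff]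
        change (MulAut.conj g).symm y * z0 = z0 * (MulAut.conj g).symm y ↔ _
        rw [MulAut.conj_symm_apply]
        constructor
        · intro h2
          calc y * (g * z0 * g⁻¹) = g * ((g⁻¹ * y * g) * z0) * g⁻¹ := by group
            _ = g * (z0 * (g⁻¹ * y * g)) * g⁻¹ := by rw [h2]
            _ = _ := by group
        · intro h2
          calc g⁻¹ * y * g * z0 = g⁻¹ * (y * (g * z0 * g⁻¹)) * g := by group
            _ = g⁻¹ * (g * z0 * g⁻¹ * y) * g := by rw [h2]
            _ = _ := by group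
      rw [← h1]
      exact (NC.congr ((centralizer ({z0} : Set S)).equivMapOfInjective _ (MulAut.conj g).injective)).1 hNC
    refine ⟨⟨g * z0 * g⁻¹, hzD⟩, ?_, ?_, ?_⟩
    · apply Subtype.ext
      change g * z0 * g⁻¹ * (g * z0 * g⁻¹) = 1
      have h1 : z0 * z0 = 1 := by rw [← sq, ← hz0, pow_orderOf_eq_one]
      have h2 : g * z0 * g⁻¹ * (g * z0 * g⁻¹) = g * (z0 * z0) * g⁻¹ := by group
      rw [h2, h1]
      group
    · intro y hy
      exact Subtype.ext (hQcomm y (hQ' ⟨y, hy, rfl⟩))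
    · let f : ↥(centralizer ({(⟨g * z0 * g⁻¹, hzD⟩ : D)} : Set D)) →* ↥(centralizer ({g * z0 * g⁻¹} : Set S)) :=
        (D.subtype.comp (centralizer ({(⟨g * z0 * g⁻¹, hzD⟩ : D)} : Set D)).subtype).codRestrict _ (by
          rintro ⟨x, hx⟩
          rw [mem_centralizer_singleton_iff] at hx ⊢
          exact congrArg Subtype.val hx)
      refine NC.of_injective f ?_ hNC'
      intro a b hab
      apply Subtype.ext
      apply Subtype.ext
      exact congrArg (fun x : ↥(centralizer ({g * z0 * g⁻¹} : Set S)) => (x : S)) hab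
  set e' : J.subgroupOf D ≃* Matrix.SpecialLinearGroup (Fin 2) F := (subgroupOfEquivOfLe hJD).trans e with he'
  by_cases h3 : Fintype.card F = 3
  · obtain ⟨f⟩ := equiv_S3 h3
    obtain ⟨z, hz2, hz, hNC⟩ := hP default
    exact core_three hsub (e'.trans f) hz2
      (fun y hy => hz y (Cfsg.Agent.Lib.Cores.pCore_le_sylow (default : Sylow 2 D) hy)) hNC
  · have h2 : (2 : F) ≠ 0 := Cfsg.Agent.OddHalf.LongSL.two_ne_of_odd ho
    obtain ⟨a, b, hab⟩ := Cfsg.Agent.ClassicalGeometry.QuatPair.exists_sq_add_sq_eq_neg_one h2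
    obtain ⟨i, k, x, hi, hk, hik, hx, hxi, hxk, hc⟩ := exists_ikx h2 hab
    have hco : ∀ g h : Matrix.SpecialLinearGroup (Fin 2) F,
        ((e'.symm (g * h) : J.subgroupOf D) : D) = e'.symm g * e'.symm h := by
      intro g h
      rw [map_mul]; rfl
    have hp : IsPGroup 2 (zpowers (e'.symm i : D) ⊔ zpowers (e'.symm k : D) : Subgroup D) := by
      refine isPGroup_ik (m := e'.symm (-1)) ?_ ?_ ?_ ?_ ?_
      · rw [← hco, hi]
      · rw [← hco, hk]
      · rw [← hco, neg_one_mul, neg_neg, map_one]; rfl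
      · rw [← hco, ← hco, neg_one_mul, mul_neg_one]
      · rw [← hco, ← hco, ← hco, hik, neg_one_mul]
    obtain ⟨P, hP1⟩ := hp.exists_le_sylow
    obtain ⟨z, hz2, hz, hNC⟩ := hP P
    exact core_ne ho h3 hsub e' hi hk hik hx hxi hxk hc (hz _ (hP1 (mem_sup_left (mem_zpowers _))))
      (hz _ (hP1 (mem_sup_right (mem_zpowers _)))) hNC

end Cfsg.Agent.H456.PrimTwo
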