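import Mathlib
import Cfsg.Agent.H456.PrimTwoB2
import Cfsg.Agent.Mrg.Omega.EH3.ESix.Rows
import Cfsg.Agent.NotCT.Orders
import Cfsg.Agent.S0255
import Cfsg.Agent.S1157
import Cfsg.Agent.S1163
import Cfsg.Agent.Cit.Eleven
import Cfsg.Agent.SporadicA.M11Facts
import Cfsg.Agent.Mrg.Omega.ML.RowMJ

/-!
# Task 1105 (S3574): characteristic two, Ree groups, sporadic groups
-/

set_option autoImplicit false
set_option linter.unusedSectionVars false

namespace Cfsg.Agent.H456.PrimTwo

open Subgroup Cfsg Cfsg.Agent.H584.NC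

universe u

section

variable {S : Type u} [Group S] [Finite S]

theorem CT.of_pow (h : CT S) {n e : ℕ} (he : 6 ≤ e) (hd : 2 ^ e ∣ Nat.card S) : False :=
  h.card ((show (64 : ℕ) ∣ 2 ^ e from by
    have : (64 : ℕ) = 2 ^ 6 := by norm_num
    rw [this]
    exact pow_dvd_pow _ he).trans hd)

open Cfsg.Agent.Omega.EH3.ESix.Ord in
theorem CT.charTwo (h : CT S) (hS : IsLieTypeChar 2 S) : Concl S := by
  rcases small hS with h1 | h1 | h1
  · exact (h.of_pow (n := 0) (by norm_num) h1).elim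
  · exfalso
    obtain ⟨K, _, _, m, hm, hK, ⟨e⟩⟩ := h1
    have h2 := Cfsg.Agent.S1068.result hK
    rw [← Nat.card_congr e.toEquiv] at h2
    refine h.of_pow (n := 0) (e := (2 * m + 1) * 12) (by omega) ?_
    rw [h2, ← pow_mul, mul_assoc, mul_assoc, mul_assoc]
    exact Dvd.intro _ rfl
  · rcases h1 with ⟨F, _, _, _, -, ⟨e⟩⟩ | ⟨F, _, _, _, hF, ⟨e⟩⟩ | ⟨F, _, _, _, hF, he⟩ | ⟨F, _, _, _, hF, he⟩ |
      ⟨F, _, _, _, q, hF, hq, ⟨e⟩⟩ | ⟨F, _, _, m, hm, hF, ⟨e⟩⟩
    · exact (h.psl2_even e).elim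
    · rcases hF with hF | hF | hF
      · have : Fact (Nat.Prime 7) := ⟨by norm_num⟩
        obtain ⟨e'⟩ := Cfsg.Agent.S0255.result (F := ZMod 7) (K := F) (by rw [ZMod.card]) hF
        exact ⟨ZMod 7, inferInstance, inferInstance, Or.inl (by rw [ZMod.card]), ⟨e.trans e'.symm⟩⟩
      · exfalso
        refine h.of_pow (n := 0) (e := 6) le_rfl ?_
        rw [Nat.card_congr e.toEquiv]
        exact psl (f := 2) (by rw [hF]; norm_num) (by norm_num) (by norm_num) (by norm_num)
      · exfalso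
        refine h.of_pow (n := 0) (e := 6) le_rfl ?_
        rw [Nat.card_congr e.toEquiv]
        exact psl (f := 3) (by rw [hF]; norm_num) (by norm_num) (by norm_num) (by norm_num)
    · exfalso
      refine h.of_pow (n := 0) (e := 6) le_rfl ?_
      rcases he with ⟨⟨e⟩⟩ | ⟨⟨e⟩⟩ | ⟨⟨e⟩⟩
      · rw [Nat.card_congr e.toEquiv]
        exact psl (f := 1) (by rw [hF]; norm_num) (by norm_num) (by norm_num) (by norm_num)
      · rw [Nat.card_congr e.toEquiv]
        exact psl (f := 1) (by rw [hF]; norm_num) (by norm_num) (by norm_num) (by norm_num)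
      · rw [Nat.card_congr e.toEquiv]
        exact psp (f := 1) (by rw [hF]; norm_num) (by norm_num) (by norm_num) (by norm_num)
    · exfalso
      refine h.of_pow (n := 0) (e := 6) le_rfl ?_
      rcases he with ⟨⟨e⟩⟩ | ⟨⟨e⟩⟩ | ⟨⟨e⟩⟩
      · rw [Nat.card_congr e.toEquiv]
        exact psp (f := 2) (by rw [hF]; norm_num) (by norm_num) (by norm_num) (by norm_num)
      · rw [Nat.card_congr e.toEquiv]
        exact psu (f := 1) (by rw [hF]; norm_num) (by norm_num) (by norm_num) (by norm_num)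
      · rw [Nat.card_congr e.toEquiv]
        exact psu (f := 1) (by rw [hF]; norm_num) (by norm_num) (by norm_num) (by norm_num)
    · exfalso
      refine h.of_pow (n := 0) (e := 6) le_rfl ?_
      rw [Nat.card_congr e.toEquiv]
      rcases hq with rfl | rfl
      · exact psu (f := 2) (by rw [hF]; norm_num) (by norm_num) (by norm_num) (by norm_num)
      · exact psu (f := 3) (by rw [hF]; norm_num) (by norm_num) (by norm_num) (by norm_num)
    · exfalso
      have h2 := (Cfsg.Agent.S1163.result hm hF).1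
      rw [← Nat.card_congr e.toEquiv] at h2
      refine h.of_pow (n := 0) (e := (2 * m + 1) * 2) (by omega) ?_
      rw [h2, ← pow_mul, mul_assoc]
      exact Dvd.intro _ rfl

theorem CT.not_ree (h : CT S) : ¬ Lie.IsoRee S := by
  rintro ⟨K, i1, i2, m, hm, hK, ⟨e⟩⟩
  obtain ⟨z, Q, -, -, hn⟩ := h.ex
  have hfin : Finite ↥(Cfsg.Lie.twistedG2 K (3 ^ m)) := Finite.of_equiv S e.toEquiv
  let Q' : Sylow 2 ↥(Cfsg.Lie.twistedG2 K (3 ^ m)) := Q.mapSurjective (f := e.toMonoidHom) e.surjective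
  obtain ⟨-, hcard⟩ := S1157.result hm hK Q'
  have h1 : (Q' : Subgroup ↥(Cfsg.Lie.twistedG2 K (3 ^ m))) = (Q : Subgroup S).map e.toMonoidHom := rfl
  have h2 : normalizer ((Q' : Subgroup ↥(Cfsg.Lie.twistedG2 K (3 ^ m))) : Set ↥(Cfsg.Lie.twistedG2 K (3 ^ m))) =
      (normalizer ((Q : Subgroup S) : Set S)).map e.toMonoidHom := by
    rw [h1]
    exact (Subgroup.map_equiv_normalizer_eq _ e).symm
  rw [h2, hn, Subgroup.card_map_of_injective e.injective, Q.card_eq_multiplicity] at hcard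
  have h7 : 7 ∣ 2 ^ (Nat.card S).factorization 2 := by rw [hcard]; norm_num
  have h8 := (Nat.prime_dvd_prime_iff_eq (by norm_num) Nat.prime_two).1 ((by norm_num : Nat.Prime 7).dvd_of_dvd_pow h7)
  omega

theorem CT.not_m11 (h : CT S) : ¬ Spor.IsoM11 S := by
  intro h1
  obtain ⟨z, Q, hz, hc, -⟩ := h.ex
  have h2 := Cfsg.Agent.SporadicA.M11Facts.card_centralizer_two (Cfsg.Agent.Cit.Eleven.isM11 h1) hz
  rw [hc, Q.card_eq_multiplicity] at h2
  have h7 : 3 ∣ 2 ^ (Nat.card S).factorization 2 := by rw [h2]; norm_num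
  have h8 := (Nat.prime_dvd_prime_iff_eq (by norm_num) Nat.prime_two).1 ((by norm_num : Nat.Prime 3).dvd_of_dvd_pow h7)
  omega

theorem CT.not_j1 (h : CT S) : ¬ Spor.IsoJ1 S := by
  intro h1
  apply h.false_of_abelian
  intro P x hx y hy
  obtain ⟨-, h2⟩ := Cfsg.Agent.Omega.ML.RowMJ.J1.syl h1 P
  have h3 := h2 _ (mul_mem hx hy)
  have hxx := h2 _ hx
  have hyy := h2 _ hy
  calc x * y = x * ((x * y) * (x * y)) * y := by rw [h3, mul_one]
    _ = (x * x) * (y * x) * (y * y) := by simp only [mul_assoc]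
    _ = y * x := by rw [hxx, hyy, one_mul, mul_one]

open Cfsg.Agent.NotCT.Orders in
theorem CT.not_spor (h : CT S) : ¬ IsSporadicGroup S := by
  have key : ∀ {n : ℕ}, Nat.card S = n → 64 ∣ n → False := fun hn h64 => h.false_of_64 hn h64
  rintro (h1 | h1 | h1 | h1 | h1 | h1 | h1 | h1 | h1 | h1 | h1 | h1 | h1 | h1 | h1 | h1 | h1 | h1 | h1 | h1 | h1 | h1 |
    h1 | h1 | h1 | h1)
  · exact h.not_m11 h1
  · exact key (m12 h1) (by norm_num)
  · exact key (m22 h1) (by norm_num)
  · exact key (m23 h1) (by norm_num)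
  · exact key (m24 h1) (by norm_num)
  · exact h.not_j1 h1
  · exact key (j2 h1) (by norm_num)
  · exact key (j3 h1) (by norm_num)
  · exact key (j4 h1) (by norm_num)
  · exact key (co1 h1) (by norm_num)
  · exact key (co2 h1) (by norm_num)
  · exact key (co3 h1) (by norm_num)
  · exact key (mcl h1) (by norm_num)
  · exact key (hs h1) (by norm_num)
  · exact key (suz h1) (by norm_num)
  · exact key (he h1) (by norm_num)
  · exact key (ru h1) (by norm_num)
  · exact key (on h1) (by norm_num)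
  · exact key (ly h1) (by norm_num)
  · exact key (fi22 h1) (by norm_num)
  · exact key (fi23 h1) (by norm_num)
  · exact key (fi24 h1) (by norm_num)
  · exact key (hn h1) (by norm_num)
  · exact key (th h1) (by norm_num)
  · exact key (b h1) (by norm_num)
  · exact key (m h1) (by norm_num)

theorem CT.not_tits (h : CT S) : ¬ Lie.IsoTits S := fun h1 =>
  h.false_of_64 (Cfsg.Agent.NotCT.Orders.tits h1) (by norm_num)

end

end Cfsg.Agent.H456.PrimTwo
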