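import Mathlib
import Cfsg.Agent.S0000
import Cfsg.Agent.H456.PrimTwoB1
import Cfsg.Agent.H456.PrimTwoB3
import Cfsg.Agent.Mrg.Omega.ML.AltRow
import Cfsg.Agent.OddHalf.LieOddFam
import Cfsg.Agent.OddHalf.LongSL.Rk

/-!
# Task 1105 (S3574): the simple groups
-/

set_option autoImplicit false

namespace Cfsg.Agent.H456.PrimTwo

open Subgroup Cfsg

universe u

/-- **The simple groups.** -/
theorem CT.main {S : Type u} [Group S] [Finite S] (h : CT S) : Concl S := by
  have hs := h.simple
  have hk : IsKnownSimple' S := S0000.result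
  rcases Omega.ML.Known.cases hk with h1 | h1 | ⟨h1, -⟩ | h1 | ⟨n, hn, -, h1⟩ | h1 | h1
  · exfalso
    apply h.nonsol
    have hf : Fact (Nat.card S).Prime := ⟨h1⟩
    have hcyc : IsCyclic S := isCyclic_of_prime_card (p := Nat.card S) rfl
    let _ : CommGroup S := hcyc.commGroup
    infer_instance
  · exact h.charTwo h1
  · by_cases ha : IsAlternating S
    · exact h.alt ha
    · rcases OddHalf.LieOddFam.lieOdd_cases h1 ha with h2 | h2 | h2 | ⟨q, hq, h2⟩
      · obtain ⟨F, i1, i2, hF, ⟨e⟩⟩ := h2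
        exact h.psl2 (by rw [hF]; decide) e
      · obtain ⟨F, i1, i2, hF, -, ⟨e⟩⟩ := h2
        exact h.psl2 hF e
      · exact absurd h2 h.not_ree
      · exact absurd (OddHalf.LongSL.hasLong_of_rk hq h2) (not_long h)
  · exact h.alt ⟨6, by norm_num, h1⟩
  · exact h.alt ⟨n, by omega, h1⟩
  · exact absurd h1 h.not_tits
  · exact absurd h1 h.not_spor

end Cfsg.Agent.H456.PrimTwo
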