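import Mathlib
import Cfsg.Agent.BpRee.PslOdd
import Cfsg.Agent.Lib.PSL2Inv
import Cfsg.Agent.H688.TransAut

/-!
# Automorphisms of `PSL(2, F)` induced by `GL(2, F)` which fix a four-group elementwise are conjugations by elements
of the four-group
-/

set_option autoImplicit false

namespace Cfsg.Agent.H456.PslFour

open Matrix
open Cfsg.Agent.ClassicalGeometry
open Cfsg.Agent.ClassicalGeometry.AutPSL.Root
open Cfsg.Agent.ClassicalGeometry.AutPSL.Auto
open Cfsg.Agent.Walter.FieldPSL

variable {F : Type*} [Field F]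

theorem mul_cj (A : GL (Fin 2) F) (x : Matrix.SpecialLinearGroup (Fin 2) F) :
    (A : Matrix (Fin 2) (Fin 2) F) * x.1 = (cj A x).1 * (A : Matrix (Fin 2) (Fin 2) F) := by
  have h1 : (cj A x).1 = (A : Matrix (Fin 2) (Fin 2) F) * x * ((A⁻¹ : GL (Fin 2) F) : Matrix (Fin 2) (Fin 2) F) := coe_cj A x
  rw [h1, Matrix.mul_assoc, Matrix.mul_assoc, ← Units.val_mul, inv_mul_cancel, Units.val_one, Matrix.mul_one]

/-- a matrix `A` with `A w` commuting with `i` and `k` induces conjugation by `w⁻¹` -/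
theorem scal (A : GL (Fin 2) F) (w i k : Matrix.SpecialLinearGroup (Fin 2) F) (hik : i * k ≠ k * i)
    (h1 : cj A (w * i * w⁻¹) = i) (h2 : cj A (w * k * w⁻¹) = k) :
    lift (cj A) = MulAut.conj (pr w)⁻¹ := by
  set B : Matrix (Fin 2) (Fin 2) F := (A : Matrix (Fin 2) (Fin 2) F) * w.1 with hB
  have key : ∀ x : Matrix.SpecialLinearGroup (Fin 2) F, cj A (w * x * w⁻¹) = x → B * x.1 = x.1 * B := by
    intro x hx
    have h3 := mul_cj A (w * x * w⁻¹)
    rw [hx] at h3
    have e : w.1 * x.1 = (w * x * w⁻¹).1 * w.1 := by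
      change _ = (w * x * w⁻¹ * w).1
      rw [inv_mul_cancel_right]
      rfl
    rw [hB, Matrix.mul_assoc, e, ← Matrix.mul_assoc, h3, Matrix.mul_assoc]
  have hBi := key i h1
  have hBk := key k h2
  have hns : ¬ (B 0 1 ≠ 0 ∨ B 1 0 ≠ 0 ∨ B 0 0 - B 1 1 ≠ 0) := by
    intro h3
    exact hik (Subtype.ext (BpRee.PslOdd.mat_comm h3 hBi hBk))
  push Not at hns
  obtain ⟨b1, b2, b3⟩ := hns
  have hBs : B = scalar (Fin 2) (B 0 0) := by
    ext r s
    fin_cases r <;> fin_cases s
    · simp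
    · simpa using b1
    · simpa using b2
    · have : B 1 1 = B 0 0 := (sub_eq_zero.1 b3).symm
      simpa using this
  -- `A = r w⁻¹`
  have hcomm : ∀ x : Matrix.SpecialLinearGroup (Fin 2) F, B * x.1 = x.1 * B := by
    intro x
    rw [hBs]
    exact (Matrix.scalar_commute _ (fun _ => Commute.all _ _) _).eq
  have hcj : ∀ x : Matrix.SpecialLinearGroup (Fin 2) F, cj A (w * x * w⁻¹) = x := by
    intro x
    have h3 := mul_cj A (w * x * w⁻¹)
    have e : w.1 * x.1 = (w * x * w⁻¹).1 * w.1 := by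
      change _ = (w * x * w⁻¹ * w).1
      rw [inv_mul_cancel_right]
      rfl
    have h4 := hcomm x
    rw [hB, Matrix.mul_assoc, e, ← Matrix.mul_assoc, h3, Matrix.mul_assoc] at h4
    -- `(cj A _) * (A w) = x * (A w)`
    have hu : IsUnit ((A : Matrix (Fin 2) (Fin 2) F) * w.1) := by
      refine A.isUnit.mul ?_
      rw [Matrix.isUnit_iff_isUnit_det, w.2]
      exact isUnit_one
    exact Subtype.ext (hu.mul_left_injective h4)
  apply MulEquiv.ext
  intro x
  obtain ⟨x, rfl⟩ := pr_surjective x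
  rw [lift_pr]
  have h5 : x = w * (w⁻¹ * x * w) * w⁻¹ := by group
  rw [h5, hcj, MulAut.conj_apply, inv_inv, ← map_inv, ← map_mul, ← map_mul]
  congr 1
  group

theorem four_fix (h2 : (2 : F) ≠ 0) (A : GL (Fin 2) F) {u v : Matrix.ProjectiveSpecialLinearGroup (Fin 2) F}
    (hu1 : u ≠ 1) (hv1 : v ≠ 1) (huv : u ≠ v) (hu : u * u = 1) (hv : v * v = 1) (hc : u * v = v * u)
    (hAu : lift (cj A) u = u) (hAv : lift (cj A) v = v) :
    ∃ w, (w = 1 ∨ w = u ∨ w = v ∨ w = u * v) ∧ lift (cj A) = MulAut.conj w := by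
  obtain ⟨i, rfl⟩ := pr_surjective u
  obtain ⟨k, rfl⟩ := pr_surjective v
  rw [← map_mul, ← map_one pr, pr_eq_iff] at hu hv
  rw [← map_mul, ← map_mul, pr_eq_iff] at hc
  rw [lift_pr, pr_eq_iff] at hAu hAv
  have hii : i * i = -1 := by
    rcases hu with h | h
    · exfalso
      apply hu1
      rw [← map_one pr, pr_eq_iff]
      exact Cfsg.Agent.Lib.PSL2Inv.sq_eq_one h2 h
    · exact h
  have hkk : k * k = -1 := by
    rcases hv with h | h
    · exfalso
      apply hv1
      rw [← map_one pr, pr_eq_iff]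
      exact Cfsg.Agent.Lib.PSL2Inv.sq_eq_one h2 h
    · exact h
  have hne := PSL2Basic.neg_one_ne_one_SL2 h2
  have hneg : ∀ x : Matrix.SpecialLinearGroup (Fin 2) F, x ≠ -x := by
    intro x hx
    apply hne
    have h3 : x * 1 = x * (-1) := by rw [mul_one, mul_neg_one]; exact hx
    exact (mul_left_cancel h3).symm
  have hki : i * k = -(k * i) := by
    rcases hc with h | h
    · exfalso
      have h3 : (i * k) * (i * k) = 1 := by
        calc (i * k) * (i * k) = i * (k * i) * k := by simp only [mul_assoc]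
          _ = i * (i * k) * k := by rw [h]
          _ = (i * i) * (k * k) := by simp only [mul_assoc]
          _ = 1 := by rw [hii, hkk, neg_mul_neg, one_mul]
      apply huv
      rw [pr_eq_iff]
      rcases Cfsg.Agent.Lib.PSL2Inv.sq_eq_one h2 h3 with h4 | h4
      · right
        calc i = i * (k * k) * (-1) := by rw [hkk, mul_neg_one, mul_neg_one, neg_neg]
          _ = (i * k) * k * (-1) := by simp only [mul_assoc]
          _ = -k := by rw [h4, one_mul, mul_neg_one]
      · left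
        calc i = i * (k * k) * (-1) := by rw [hkk, mul_neg_one, mul_neg_one, neg_neg]
          _ = (i * k) * k * (-1) := by simp only [mul_assoc]
          _ = k := by rw [h4, neg_one_mul, mul_neg_one, neg_neg]
    · exact h
  have hik : i * k ≠ k * i := by
    intro h
    rw [hki] at h
    exact hneg _ h.symm
  have inv_i : i⁻¹ = -i := by
    apply inv_eq_of_mul_eq_one_right
    rw [mul_neg, hii, neg_neg]
  have inv_k : k⁻¹ = -k := by
    apply inv_eq_of_mul_eq_one_right
    rw [mul_neg, hkk, neg_neg]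
  -- conjugations
  have c1 : i * k * i⁻¹ = -k := by
    rw [inv_i, mul_neg, hki, neg_mul, neg_neg, mul_assoc, hii, mul_neg_one]
  have c2 : k * i * k⁻¹ = -i := by
    have hki' : k * i = -(i * k) := by rw [hki, neg_neg]
    rw [inv_k, mul_neg, hki', neg_mul, neg_neg, mul_assoc, hkk, mul_neg_one]
  have cjneg : ∀ x, cj A (-x) = - cj A x := by
    intro x
    apply Subtype.ext
    rw [coe_cj, Matrix.SpecialLinearGroup.coe_neg, Matrix.SpecialLinearGroup.coe_neg, coe_cj, Matrix.mul_neg,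
      Matrix.neg_mul]
  have conjneg : ∀ x y : Matrix.SpecialLinearGroup (Fin 2) F, x * (-y) * x⁻¹ = -(x * y * x⁻¹) := by
    intro x y
    rw [mul_neg, neg_mul]
  rcases hAu with hAi | hAi <;> rcases hAv with hAk | hAk
  · refine ⟨1, Or.inl rfl, ?_⟩
    have h3 := scal A 1 i k hik (by rw [one_mul, inv_one, mul_one, hAi]) (by rw [one_mul, inv_one, mul_one, hAk])
    rw [h3, map_one, inv_one]
  · refine ⟨pr i, Or.inr (Or.inl rfl), ?_⟩
    have h3 := scal A i i k hik (by rw [mul_inv_cancel_right, hAi]) (by rw [c1, cjneg, hAk, neg_neg])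
    rw [h3, ← map_inv, inv_i, pr_neg]
  · refine ⟨pr k, Or.inr (Or.inr (Or.inl rfl)), ?_⟩
    have h3 := scal A k i k hik (by rw [c2, cjneg, hAi, neg_neg]) (by rw [mul_inv_cancel_right, hAk])
    rw [h3, ← map_inv, inv_k, pr_neg]
  · refine ⟨pr i * pr k, Or.inr (Or.inr (Or.inr rfl)), ?_⟩
    have e1 : i * k * i * (i * k)⁻¹ = -i := by
      calc i * k * i * (i * k)⁻¹ = i * (k * i * k⁻¹) * i⁻¹ := by group
        _ = -i := by rw [c2, conjneg, mul_inv_cancel_right]
    have e2 : i * k * k * (i * k)⁻¹ = -k := by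
      calc i * k * k * (i * k)⁻¹ = i * k * i⁻¹ := by group
        _ = -k := c1
    have h3 := scal A (i * k) i k hik (by rw [e1, cjneg, hAi, neg_neg]) (by rw [e2, cjneg, hAk, neg_neg])
    rw [h3, ← map_inv, _root_.mul_inv_rev, inv_i, inv_k, neg_mul_neg, ← map_mul]
    congr 1
    rw [pr_eq_iff]
    right
    rw [hki, neg_neg]

/-- the same for all automorphisms, `|F|` prime -/
theorem four_fix_prime [Fintype F] (hp : (Fintype.card F).Prime) (h2 : (2 : F) ≠ 0)
    (α : MulAut (Matrix.ProjectiveSpecialLinearGroup (Fin 2) F))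
    {u v : Matrix.ProjectiveSpecialLinearGroup (Fin 2) F}
    (hu1 : u ≠ 1) (hv1 : v ≠ 1) (huv : u ≠ v) (hu : u * u = 1) (hv : v * v = 1) (hc : u * v = v * u)
    (hAu : α u = u) (hAv : α v = v) :
    ∃ w, (w = 1 ∨ w = u ∨ w = v ∨ w = u * v) ∧ α = MulAut.conj w := by
  obtain ⟨p, hpc⟩ := CharP.exists F
  have hpf : Fact p.Prime := ⟨CharP.char_is_prime F p⟩
  obtain ⟨A, σ, rfl⟩ := AutPSL.Main.surj_two p α
  have hσ : σ = 1 := by
    have hpc : p = Fintype.card F := by
      have h2 : p ∣ Fintype.card F := (CharP.cast_eq_zero_iff F p _).1 (by simp)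
      exact (Nat.prime_dvd_prime_iff_eq hpf.out hp).1 h2
    subst hpc
    have e := ZMod.ringEquiv F (rfl : Fintype.card F = Fintype.card F)
    apply RingEquiv.ext
    intro x
    obtain ⟨y, rfl⟩ := e.surjective x
    exact congrFun (congrArg DFunLike.coe (RingHom.ext_zmod ((σ : F →+* F).comp e.toRingHom)
      (((1 : F ≃+* F) : F →+* F).comp e.toRingHom))) y
  subst hσ
  rw [map_one, mul_one] at *
  exact four_fix h2 A hu1 hv1 huv hu hv hc hAu hAv

end Cfsg.Agent.H456.PslFour
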