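import Mathlib
import Cfsg.Agent.H456.PrimTwoB2
import Cfsg.Agent.H456.PslFour
import Cfsg.Agent.OddCyclic.EO.Fit
import Cfsg.Agent.S4039

/-!
# Task 1105 (S3574): the orders
-/

set_option autoImplicit false
set_option linter.unusedSectionVars false
set_option linter.deprecated false

namespace Cfsg.Agent.H456.PrimTwo

open Subgroup Cfsg Pointwise Cfsg.Agent.Lib.PSL2Torus

universe u

/-! ### groups of order dividing 8 -/

theorem comm_of_dvd_four {X : Type u} [Group X] [Finite X] (h4 : Nat.card X ∣ 4) : IsMulCommutative X := by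
  have h1 : Nat.card X ≤ 4 := Nat.le_of_dvd (by norm_num) h4
  have h0 : 0 < Nat.card X := Nat.card_pos
  rcases (show Nat.card X = 1 ∨ Nat.card X = 2 ∨ Nat.card X = 4 by
    generalize Nat.card X = n at *
    interval_cases n <;> omega) with h | h | h
  · have := (Nat.card_eq_one_iff_unique.1 h).1
    exact ⟨⟨fun a b => Subsingleton.elim _ _⟩⟩
  · have : Fact (Nat.Prime 2) := ⟨Nat.prime_two⟩
    have hc : IsCyclic X := isCyclic_of_prime_card h
    let _ := hc.commGroup
    exact ⟨⟨fun a b => mul_comm a b⟩⟩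
  · have : Fact (Nat.Prime 2) := ⟨Nat.prime_two⟩
    exact IsPGroup.isMulCommutative_of_card_eq_prime_sq (p := 2) (by rw [h]; norm_num)

theorem class_le {X : Type u} [Group X] [Finite X] (hX : IsPGroup 2 X) (h8 : Nat.card X ∣ 8) :
    Group.nilpotencyClass X ≤ 2 := by
  have hf : Fact (Nat.Prime 2) := ⟨Nat.prime_two⟩
  have := hX.isNilpotent
  rcases subsingleton_or_nontrivial X with hs | hn
  · rw [nilpotencyClass_zero_iff_subsingleton.2 hs]
    norm_num
  · rw [Group.nilpotencyClass_eq_quotient_center_plus_one]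
    have h1 : IsMulCommutative (X ⧸ center X) := by
      apply comm_of_dvd_four
      have h2 := Subgroup.card_eq_card_quotient_mul_card_subgroup (center X)
      have h3 : Nontrivial (center X) := hX.center_nontrivial
      have h4 : 1 < Nat.card (center X) := Finite.one_lt_card
      have h5 : Nat.card (center X) ∣ 8 := (Dvd.intro_left _ h2.symm).trans h8
      have h6 : 2 ∣ Nat.card (center X) := by
        obtain ⟨j, -, hj⟩ := (Nat.dvd_prime_pow Nat.prime_two).1 (show Nat.card (center X) ∣ 2 ^ 3 from h5)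
        rcases j with _ | j
        · omega
        · exact hj ▸ dvd_pow_self 2 (Nat.succ_ne_zero j)
      obtain ⟨k, hk⟩ := h6
      rw [hk] at h2
      rw [h2] at h8
      have h7 : 2 * (Nat.card (X ⧸ center X)) ∣ 2 * 4 := by
        refine dvd_trans ?_ h8
        exact ⟨k, by ring⟩
      exact Nat.dvd_of_mul_dvd_mul_left (by norm_num) h7
    have h2 := Group.IsNilpotent.nilpotencyClass_le_one_iff.2 h1
    omega

theorem Sit.card_not_small {G : Type u} [Group G] [Finite G] {A : Subgroup G} (h : Sit A) : ¬ Nat.card A ∣ 8 := by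
  intro h8
  have hf : Fact (Nat.Prime 2) := ⟨Nat.prime_two⟩
  exact h.sol (S4039.result A h.max h.two.isNilpotent (class_le h.two h8))

/-! ### the order of the automorphism group -/

section

variable {G : Type u} [Group G] [Finite G] {A T : Subgroup G}

theorem card_le_aut [hTn : T.Normal] (hTc : centralizer (T : Set G) = ⊥) {F : Type} [Field F] [Fintype F]
    (hp : (Fintype.card F).Prime) (e : T ≃* Matrix.ProjectiveSpecialLinearGroup (Fin 2) F) :
    Nat.card G ≤ Fintype.card F * (Fintype.card F ^ 2 - 1) := by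
  rw [← Cfsg.Agent.H688.TransAut.card_aut hp, ← Nat.card_congr (MulAut.congr e).toEquiv]
  have hfin : Finite (MulAut T) := Finite.of_injective (fun α : MulAut T => (α : T → T)) DFunLike.coe_injective
  refine Nat.card_le_card_of_injective (MulAut.conjNormal : G →* MulAut T) ?_
  rw [injective_iff_map_eq_one]
  intro g hg
  have h1 : g ∈ centralizer (T : Set G) := by
    rw [mem_centralizer_iff]
    intro x hx
    have h2 := congrArg (fun f : MulAut T => ((f ⟨x, hx⟩ : T) : G)) hg
    simp only [MulAut.conjNormal_apply, MulAut.one_apply] at h2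
    rw [mul_inv_eq_iff_eq_mul] at h2
    exact h2.symm
  rw [hTc, mem_bot] at h1
  exact h1

theorem mem_smul_iff {g x : G} : x ∈ MulAut.conj g • A ↔ g⁻¹ * x * g ∈ A := by
  rw [Subgroup.mem_pointwise_smul_iff_inv_smul_mem]
  have e : (MulAut.conj g)⁻¹ • x = g⁻¹ * x * g := by
    rw [← map_inv]
    show g⁻¹ * x * g⁻¹⁻¹ = _
    rw [inv_inv]
  rw [e]

/-- **`PSL(2, p)` with `|A| = 32`.** -/
theorem Sit.prime_case (h : Sit A) {g : G} (hidx : (MulAut.conj g • A).relIndex A = 4) (h32 : Nat.card A = 32)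
    [hTn : T.Normal] (hTc : centralizer (T : Set G) = ⊥) {z : G} (hzT : z ∈ T) (hzA : z ∈ A) (hz2 : orderOf z = 2)
    (hzc : centralizer ({z} : Set G) = A) {F : Type} [Field F] [Fintype F] (hp : (Fintype.card F).Prime)
    (h2 : (2 : F) ≠ 0) (e : T ≃* Matrix.ProjectiveSpecialLinearGroup (Fin 2) F) {T0 : Subgroup T} {m : ℕ}
    (hT0 : TorusAt (⟨z, hzT⟩ : T) T0 m) (hm8 : 8 ≤ m) : False := by
  have hA' : ∀ x, x ∈ A ↔ x * z = z * x := fun x => by
    rw [← hzc, mem_centralizer_singleton_iff]
  have hzz : z * z = 1 := by rw [← pow_two, ← hz2, pow_orderOf_eq_one]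
  have hz1 : z ≠ 1 := by
    intro h1
    rw [h1, orderOf_one] at hz2
    omega
  -- the torus in `G`
  set T1 : Subgroup G := T0.map T.subtype with hT1
  have hT1T : T1 ≤ T := by
    rintro _ ⟨x, hx, rfl⟩
    exact x.2
  have hT1c : Nat.card T1 = m := by
    rw [hT1, Subgroup.card_map_of_injective T.subtype_injective, hT0.card]
  have hT1cyc : IsCyclic T1 := by
    have := hT0.cyclic
    exact isCyclic_of_surjective (T0.equivMapOfInjective T.subtype T.subtype_injective).toMonoidHom
      (T0.equivMapOfInjective T.subtype T.subtype_injective).surjective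
  have hT1A : T1 ≤ A := by
    rintro _ ⟨x, hx, rfl⟩
    rw [hA']
    exact congrArg Subtype.val (hT0.comm x hx)
  have hout : ∀ x ∈ A, x ∈ T → x ∉ T1 → x * x = 1 := by
    intro x hxA hxT hx1
    have h3 : (⟨x, hxT⟩ : T) ∉ T0 := fun h4 => hx1 ⟨_, h4, rfl⟩
    have h4 : (⟨x, hxT⟩ : T) * ⟨z, hzT⟩ = ⟨z, hzT⟩ * ⟨x, hxT⟩ := Subtype.ext ((hA' x).1 hxA)
    exact congrArg Subtype.val (hT0.out _ h4 h3).2.1
  have hsq : ∀ x ∈ T1, x * x = 1 → x = 1 ∨ x = z := by
    rintro _ ⟨x, hx, rfl⟩ hxx
    rcases hT0.eq_of_sq hx (Subtype.ext hxx) with h3 | h3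
    · left; rw [h3]; rfl
    · right; rw [h3]; rfl
  -- normalizers
  have hN : ∀ y ∈ A, y ∈ T → y * y ≠ 1 → normalizer ((zpowers y : Subgroup G) : Set G) = A := by
    intro y hyA hyT hyy
    have hy1 : y ∈ T1 := by
      by_contra hcon
      exact hyy (hout y hyA hyT hcon)
    have key : ∀ a ∈ A, a * y * a⁻¹ ∈ zpowers y := by
      intro a ha
      have h3 : a * y * a⁻¹ ∈ A := A.mul_mem (A.mul_mem ha hyA) (A.inv_mem ha)
      have h4 : a * y * a⁻¹ ∈ T := hTn.conj_mem _ hyT _
      have h5 : (a * y * a⁻¹) * (a * y * a⁻¹) ≠ 1 := by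
        intro h6
        apply hyy
        have h7 : (a * y * a⁻¹) * (a * y * a⁻¹) = a * (y * y) * a⁻¹ := by group
        rw [h7] at h6
        calc y * y = a⁻¹ * (a * (y * y) * a⁻¹) * a := by group
          _ = 1 := by rw [h6]; group
      have h6 : a * y * a⁻¹ ∈ T1 := by
        by_contra hcon
        exact h5 (hout _ h3 h4 hcon)
      refine Cfsg.Agent.OddCyclic.EO.Fit.mem_zpowers_of_dvd hT1cyc h6 hy1 ?_
      have h7 : a * y * a⁻¹ = MulAut.conj a y := rfl
      rw [h7, (MulAut.conj a).orderOf_eq]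
    have key2 : ∀ a ∈ A, ∀ x ∈ zpowers y, a * x * a⁻¹ ∈ zpowers y := by
      intro a ha x hx
      obtain ⟨k, rfl⟩ := mem_zpowers_iff.1 hx
      rw [← conj_zpow]
      exact zpow_mem (key a ha) _
    refine h.norm_eq (zpowers_le.2 hyA) ?_ ?_
    · rw [Ne, zpowers_eq_bot]
      rintro rfl
      exact hyy (mul_one 1)
    · intro a ha
      rw [mem_normalizer_iff]
      intro x
      refine ⟨key2 a ha x, fun hx => ?_⟩
      have h3 := key2 a⁻¹ (A.inv_mem ha) _ hx
      have h4 : a⁻¹ * (a * x * a⁻¹) * a⁻¹⁻¹ = x := by group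
      rwa [h4] at h3
  have hAg : MulAut.conj g • A ≠ A := by
    intro h3
    rw [h3, relIndex_self] at hidx
    omega
  -- no elements `y` with `y ^ 2 ≠ 1`
  have noy : ∀ y ∈ T, y ∈ A → g⁻¹ * y * g ∈ A → y * y = 1 := by
    intro y hyT hyA hyg
    by_contra hcon
    have h3 := hN y hyA hyT hcon
    have h4 : normalizer ((zpowers (g⁻¹ * y * g) : Subgroup G) : Set G) = A := by
      refine hN _ hyg ?_ ?_
      · have := hTn.conj_mem _ hyT g⁻¹
        rwa [inv_inv] at this
      · intro h6
        apply hcon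
        have h7 : (g⁻¹ * y * g) * (g⁻¹ * y * g) = g⁻¹ * (y * y) * g := by group
        rw [h7] at h6
        calc y * y = g * (g⁻¹ * (y * y) * g) * g⁻¹ := by group
          _ = 1 := by rw [h6]; group
    apply hAg
    have h5 : (zpowers (g⁻¹ * y * g)).map (MulAut.conj g).toMonoidHom = zpowers y := by
      rw [MonoidHom.map_zpowers]
      congr 1
      change g * (g⁻¹ * y * g) * g⁻¹ = y
      group
    have h6 := Subgroup.map_equiv_normalizer_eq (zpowers (g⁻¹ * y * g)) (MulAut.conj g)
    rw [h5, h3, h4] at h6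
    exact h6
  -- the intersection
  set D : Subgroup G := MulAut.conj g • A ⊓ A with hD
  have hDA : D ≤ A := inf_le_right
  have hDc : Nat.card D = 8 := by
    have h3 : D.relIndex A = 4 := by rw [hD, inf_relIndex_right, hidx]
    have h4 := (D.subgroupOf A).card_mul_index
    change Nat.card (D.subgroupOf A) * D.relIndex A = _ at h4
    rw [h3, h32, Nat.card_congr (subgroupOfEquivOfLe hDA).toEquiv] at h4
    omega
  have hDm : ∀ x, x ∈ D ↔ g⁻¹ * x * g ∈ A ∧ x ∈ A := fun x => by
    rw [hD, mem_inf, mem_smul_iff]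
  have hrel : ∀ {K L : Subgroup G}, K ≤ L → Nat.card K * K.relIndex L = Nat.card L := by
    intro K L hKL
    have h4 := (K.subgroupOf L).card_mul_index
    rwa [Nat.card_congr (subgroupOfEquivOfLe hKL).toEquiv] at h4
  -- `z ∈ D`
  have hz3 : T1.relIndex A ≤ 4 := by
    have h3 := hrel hT1A
    rw [hT1c, h32] at h3
    by_contra hcon
    have h4 : 8 * 5 ≤ m * T1.relIndex A := Nat.mul_le_mul hm8 (by omega)
    omega
  have hzD : z ∈ D := by
    have h3 : T1.relIndex D ≤ 4 := (relIndex_le_of_le_right hDA (by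
      have h4 := hrel hT1A
      intro h5
      rw [h5, h32] at h4
      omega)).trans hz3
    have h4 : Nat.card (T1 ⊓ D : Subgroup G) * T1.relIndex D = 8 := by
      have := hrel (inf_le_right : T1 ⊓ D ≤ D)
      rwa [inf_relIndex_right, hDc] at this
    have h5 : T1 ⊓ D ≠ ⊥ := by
      intro h6
      rw [h6, card_bot] at h4
      omega
    obtain ⟨⟨x, hx⟩, hx1⟩ := Subgroup.ne_bot_iff_exists_ne_one.1 h5
    have hx1' : (x : G) ≠ 1 := fun h6 => hx1 (Subtype.ext h6)
    obtain ⟨hxD1, hxD2⟩ := (hDm x).1 hx.2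
    rcases hsq x hx.1 (noy x (hT1T hx.1) hxD2 hxD1) with h6 | h6
    · exact absurd h6 hx1'
    · rw [← h6]; exact hx.2
  have hzg : g⁻¹ * z * g ∈ A := ((hDm z).1 hzD).1
  -- the conjugate of `z`
  obtain ⟨w, hw⟩ : ∃ w : G, w = g * z * g⁻¹ := ⟨_, rfl⟩
  have hwT : w ∈ T := by rw [hw]; exact hTn.conj_mem _ hzT _
  have hcom : ∀ x, g⁻¹ * x * g ∈ A ↔ x * w = w * x := by
    intro x
    rw [hA', hw]
    constructor
    · intro h3
      calc x * (g * z * g⁻¹) = g * (g⁻¹ * x * g * z) * g⁻¹ := by group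
        _ = g * (z * (g⁻¹ * x * g)) * g⁻¹ := by rw [h3]
        _ = _ := by group
    · intro h3
      calc g⁻¹ * x * g * z = g⁻¹ * (x * (g * z * g⁻¹)) * g := by group
        _ = g⁻¹ * (g * z * g⁻¹ * x) * g := by rw [h3]
        _ = _ := by group
  have hzw : z * w = w * z := (hcom z).1 hzg
  have hww : w * w = 1 := by
    rw [hw]
    calc g * z * g⁻¹ * (g * z * g⁻¹) = g * (z * z) * g⁻¹ := by group
      _ = 1 := by rw [hzz]; group
  have hw1 : w ≠ 1 := by
    intro h3
    apply hz1
    calc z = g⁻¹ * (g * z * g⁻¹) * g := by group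
      _ = 1 := by rw [← hw, h3]; group
  have hwz : z ≠ w := by
    intro h3
    apply hAg
    ext x
    rw [mem_smul_iff, hcom, ← h3, hA']
  -- `D ≤ T`
  have hDT : D ≤ T := by
    intro d hd
    obtain ⟨hd1, hd2⟩ := (hDm d).1 hd
    rw [hcom] at hd1
    rw [hA'] at hd2
    set α : MulAut T := MulAut.conjNormal d with hα
    have hαx : ∀ x : T, ((α x : T) : G) = d * x * d⁻¹ := fun x => MulAut.conjNormal_apply d x
    set β : MulAut (Matrix.ProjectiveSpecialLinearGroup (Fin 2) F) := MulAut.congr e α with hβ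
    have hβx : ∀ y, β y = e (α (e.symm y)) := fun y => rfl
    have hαz : α ⟨z, hzT⟩ = ⟨z, hzT⟩ := by
      apply Subtype.ext
      rw [hαx]
      change d * z * d⁻¹ = z
      rw [hd2, mul_inv_cancel_right]
    have hαw : α ⟨w, hwT⟩ = ⟨w, hwT⟩ := by
      apply Subtype.ext
      rw [hαx]
      change d * w * d⁻¹ = w
      rw [hd1, mul_inv_cancel_right]
    obtain ⟨x, -, hx⟩ := Cfsg.Agent.H456.PslFour.four_fix_prime hp h2 β (u := e ⟨z, hzT⟩) (v := e ⟨w, hwT⟩)
      (fun h3 => hz1 (congrArg Subtype.val (e.injective (h3.trans (map_one e).symm))))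
      (fun h3 => hw1 (congrArg Subtype.val (e.injective (h3.trans (map_one e).symm))))
      (fun h3 => hwz (congrArg Subtype.val (e.injective h3)))
      (by rw [← map_mul, ← map_one e]; congr 1; exact Subtype.ext hzz)
      (by rw [← map_mul, ← map_one e]; congr 1; exact Subtype.ext hww)
      (by rw [← map_mul, ← map_mul]; congr 1; exact Subtype.ext hzw)
      (by rw [hβx, e.symm_apply_apply, hαz]) (by rw [hβx, e.symm_apply_apply, hαw])
    have h3 : ∀ t : T, α t = e.symm x * t * (e.symm x)⁻¹ := by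
      intro t
      apply e.injective
      have h4 := congrArg (fun f : MulAut (Matrix.ProjectiveSpecialLinearGroup (Fin 2) F) => f (e t)) hx
      simp only [hβx, e.symm_apply_apply, MulAut.conj_apply] at h4
      rw [h4, map_mul, map_mul, map_inv, e.apply_symm_apply]
    have h4 : ((e.symm x : T) : G)⁻¹ * d ∈ centralizer (T : Set G) := by
      rw [mem_centralizer_iff]
      intro t ht
      have h5 : d * t * d⁻¹ = (e.symm x : T) * t * ((e.symm x : T) : G)⁻¹ := by
        have := congrArg Subtype.val (h3 ⟨t, ht⟩)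
        rwa [hαx] at this
      have h6 : d * t = (e.symm x : T) * t * ((e.symm x : T) : G)⁻¹ * d := by
        rw [← h5]; group
      rw [mul_assoc, h6]
      group
    rw [hTc, mem_bot, inv_mul_eq_one] at h4
    rw [← h4]
    exact (e.symm x).2
  -- the end
  have hcc : Nat.card (A ⊓ T : Subgroup G) = 2 * m := by
    rw [← hT0.card_centralizer]
    have h3 : centralizer ({(⟨z, hzT⟩ : T)} : Set T) = A.subgroupOf T := by
      ext x
      rw [mem_centralizer_singleton_iff, mem_subgroupOf, hA']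
      exact ⟨fun h4 => congrArg Subtype.val h4, fun h4 => Subtype.ext h4⟩
    rw [h3, ← inf_subgroupOf_right, Nat.card_congr (subgroupOfEquivOfLe (inf_le_right : A ⊓ T ≤ T)).toEquiv]
  have h3 : T1.relIndex (A ⊓ T : Subgroup G) = 2 := by
    have h4 := hrel (le_inf hT1A hT1T)
    rw [hcc, hT1c] at h4
    have h5 : m * T1.relIndex (A ⊓ T : Subgroup G) = m * 2 := by rw [h4]; ring
    exact Nat.eq_of_mul_eq_mul_left (by omega) h5
  have h4 : T1.relIndex D ≤ 2 := by
    rw [← h3]
    exact relIndex_le_of_le_right (le_inf hDA hDT) (by rw [h3]; norm_num)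
  have h5 : Nat.card (T1 ⊓ D : Subgroup G) * T1.relIndex D = 8 := by
    have := hrel (inf_le_right : T1 ⊓ D ≤ D)
    rwa [inf_relIndex_right, hDc] at this
  have h6 : 4 ≤ Nat.card (T1 ⊓ D : Subgroup G) := by
    by_contra hcon
    have h7 : Nat.card (T1 ⊓ D : Subgroup G) * T1.relIndex D ≤ 3 * 2 := Nat.mul_le_mul (by omega) h4
    omega
  have h7 : ¬ ((T1 ⊓ D : Subgroup G) : Set G) ⊆ {1, z} := by
    intro h8
    have h9 := Set.ncard_le_ncard h8 (Set.toFinite _)
    have h10 : ({1, z} : Set G).ncard ≤ 2 := (Set.ncard_insert_le _ _).trans (by rw [Set.ncard_singleton])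
    have h11 : ((T1 ⊓ D : Subgroup G) : Set G).ncard = Nat.card (T1 ⊓ D : Subgroup G) := rfl
    omega
  obtain ⟨y, hy, hy1⟩ := Set.not_subset.1 h7
  obtain ⟨hyD1, hyD2⟩ := (hDm y).1 hy.2
  rcases hsq y hy.1 (noy y (hT1T hy.1) hyD2 hyD1) with h8 | h8
  · exact hy1 (Or.inl h8)
  · exact hy1 (Or.inr h8)

/-- **The orders.** -/
theorem final (hmain : ∀ (S : Type u) [Group S] [Finite S], CT S → Concl S) (hsol : ¬ Group.IsSolvable G)
    (hmax : IsCoatom A) (hcore : A.normalCore = ⊥) (g : G) (hidx : (MulAut.conj g • A).relIndex A = 4)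
    (hA : Nat.card A = 4 ∨ Nat.card A = 8 ∨ Nat.card A = 16 ∨ Nat.card A = 32) :
    Nat.card G ∈ ({336, 720, 1440, 2448} : Set ℕ) := by
  have h : Sit A := by
    refine ⟨hsol, hmax, hcore, ?_⟩
    rcases hA with h1 | h1 | h1 | h1
    · exact IsPGroup.of_card (n := 2) (by rw [h1]; norm_num)
    · exact IsPGroup.of_card (n := 3) (by rw [h1]; norm_num)
    · exact IsPGroup.of_card (n := 4) (by rw [h1]; norm_num)
    · exact IsPGroup.of_card (n := 5) (by rw [h1]; norm_num)
  have hsmall := h.card_not_small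
  have hA' : Nat.card A = 16 ∨ Nat.card A = 32 := by
    rcases hA with h1 | h1 | h1 | h1
    · exact absurd (by rw [h1]; norm_num) hsmall
    · exact absurd (by rw [h1]) hsmall
    · exact Or.inl h1
    · exact Or.inr h1
  have h64 : ¬ 64 ∣ Nat.card G := by
    intro h1
    obtain ⟨P, hP⟩ := h.exists_sylow
    have h2 : 2 ^ 6 ∣ Nat.card (P : Subgroup G) := by
      have h3 := P.card_eq_multiplicity
      rw [h3]
      exact pow_dvd_pow _ ((Nat.prime_two.pow_dvd_iff_le_factorization Nat.card_pos.ne').1 h1)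
    rw [hP] at h2
    have := Nat.le_of_dvd Nat.card_pos h2
    rcases hA' with h3 | h3 <;> rw [h3] at this <;> norm_num at this
  obtain ⟨T, hTn, hTA, hTc, hCT, z, hzT, hzA, hz2, hzc⟩ := h.exists_T h64
  obtain ⟨F, i1, i2, hF, ⟨e⟩⟩ := hmain T hCT
  have hodd : Odd (Fintype.card F) := by
    rcases hF with hF | hF | hF | hF <;> rw [hF] <;> decide
  have h2 : (2 : F) ≠ 0 := (Cfsg.Agent.ClassicalGeometry.PSL2Basic.two_ne_zero_iff_odd F).2 hodd
  have hz1 : (⟨z, hzT⟩ : T) ≠ 1 := by
    intro h1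
    have h3 : z = 1 := congrArg Subtype.val h1
    rw [h3, orderOf_one] at hz2
    omega
  have hzz : (⟨z, hzT⟩ : T) * ⟨z, hzT⟩ = 1 := Subtype.ext (by
    change z * z = 1
    rw [← pow_two, ← hz2, pow_orderOf_eq_one])
  obtain ⟨T0, m, hT0, hm⟩ := exists_torus h2 e hz1 hzz
  have hcc : Nat.card (A.subgroupOf T) = 2 * m := by
    rw [← hT0.card_centralizer]
    congr 2
    ext x
    rw [mem_centralizer_singleton_iff, mem_subgroupOf, ← hzc, mem_centralizer_singleton_iff]
    exact ⟨fun h4 => Subtype.ext h4, fun h4 => congrArg Subtype.val h4⟩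
  have hidx2 : 2 * m * T.index = Nat.card A := by
    have h1 : T.relIndex A = T.index := by
      rw [← relIndex_sup_right A T, sup_comm, hTA, relIndex_top_right]
    have h3 := (T.subgroupOf A).card_mul_index
    have h4 : Nat.card (T.subgroupOf A) = 2 * m := by
      rw [← hcc, ← inf_subgroupOf_right T A, ← inf_subgroupOf_right A T,
        Nat.card_congr (subgroupOfEquivOfLe (inf_le_right : T ⊓ A ≤ A)).toEquiv,
        Nat.card_congr (subgroupOfEquivOfLe (inf_le_right : A ⊓ T ≤ T)).toEquiv, inf_comm]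
    rw [h4] at h3
    rw [← h1]
    exact h3
  have hcG : Nat.card T * T.index = Nat.card G := T.card_mul_index
  have hcT : Nat.card T * 2 = Fintype.card F * (Fintype.card F ^ 2 - 1) := by
    rw [Nat.card_congr e.toEquiv, Cfsg.Agent.ClassicalGeometry.PSL2Basic.card_PSL2_odd F hodd]
  rw [Nat.card_eq_fintype_card] at hm
  simp only [Set.mem_insert_iff, Set.mem_singleton_iff]
  rcases hF with hF | hF | hF | hF
  · rw [hF] at hm hcT
    have hm' : m = 4 := by omega
    have hcT' : Nat.card T = 168 := by omega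
    rw [hcT'] at hcG
    subst hm'
    rcases hA' with h1 | h1
    · left; omega
    · exfalso
      have h3 := card_le_aut hTc (by rw [hF]; norm_num) e
      rw [hF] at h3
      norm_num at h3
      omega
  · rw [hF] at hm hcT
    have hm' : m = 4 := by omega
    have hcT' : Nat.card T = 360 := by omega
    rw [hcT'] at hcG
    subst hm'
    rcases hA' with h1 | h1
    · right; left; omega
    · right; right; left; omega
  · rw [hF] at hm hcT
    have hm' : m = 8 := by omega
    have hcT' : Nat.card T = 2448 := by omega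
    rw [hcT'] at hcG
    subst hm'
    rcases hA' with h1 | h1
    · right; right; right; omega
    · exfalso
      exact h.prime_case hidx h1 hTc hzT hzA hz2 hzc (by rw [hF]; norm_num) h2 e hT0 le_rfl
  · rw [hF] at hm hcT
    have hm' : m = 16 := by omega
    subst hm'
    exfalso
    refine h.prime_case hidx ?_ hTc hzT hzA hz2 hzc (by rw [hF]; norm_num) h2 e hT0 (by norm_num)
    rcases hA' with h1 | h1
    · omega
    · exact h1

end

end Cfsg.Agent.H456.PrimTwo
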