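import Mathlib
import Cfsg.Agent.H399.Defs2
import Cfsg.Agent.H456.PrimTwoB
import Cfsg.Agent.H456.PrimTwoC
import Cfsg.Prelude.Def_Classification2

/-!
# Task 1105 (S3574): primitive groups with a suborbit of length 4 whose point stabilizer is a 2-group
-/

set_option autoImplicit false

namespace Cfsg.Agent.H456

open Cfsg Pointwise Cfsg.Agent.H399

universe u

theorem two_case {G : Type u} [Group G] [Finite G] (hsol : ¬ Group.IsSolvable G) {A : Subgroup G} (hmax : IsCoatom A)
    (hcore : A.normalCore = ⊥) (g : G) (hidx : (MulAut.conj g • A).relIndex A = 4)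
    (hA : Nat.card A = 4 ∨ Nat.card A = 8 ∨ Nat.card A = 16 ∨ Nat.card A = 32) :
    Nat.card G ∈ ({336, 720, 1440, 2448} : Set ℕ) :=
  PrimTwo.final (fun _ _ _ h => h.main) hsol hmax hcore g hidx hA

end Cfsg.Agent.H456
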