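import Cfsg.Agent.H456.FixHalf5

set_option autoImplicit false
set_option linter.unusedSectionVars false

/-!
S3818: the case where all abelian normal subgroups are central.
-/

namespace Cfsg.Agent.H456

open scoped commutatorElement
open Cfsg.Agent.PLocal.HHBLinear

section Hom

variable {K : Type*} [Field K] {V : Type*} [AddCommGroup V] [Module K V]

/-- operators `f` with `Y f = f = f Y` -/
noncomputable def jmap (Y : Module.End K V) :
    ((V ⧸ LinearMap.range (Y - 1)) →ₗ[K] LinearMap.ker (Y - 1)) →ₗ[K] Module.End K V where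
  toFun g := (LinearMap.ker (Y - 1)).subtype ∘ₗ g ∘ₗ (LinearMap.range (Y - 1)).mkQ
  map_add' := by
    intro f g
    ext v
    simp
  map_smul' := by
    intro c f
    ext v
    simp

theorem jmap_apply (Y : Module.End K V)
    (g : (V ⧸ LinearMap.range (Y - 1)) →ₗ[K] LinearMap.ker (Y - 1)) (v : V) :
    jmap Y g v = (g ((LinearMap.range (Y - 1)).mkQ v) : V) := rfl

theorem jmap_injective (Y : Module.End K V) : Function.Injective (jmap Y) := by
  intro f g h
  ext v
  have h1 := LinearMap.congr_fun h v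
  rw [jmap_apply, jmap_apply] at h1
  exact h1

theorem mul_jmap (Y : Module.End K V)
    (g : (V ⧸ LinearMap.range (Y - 1)) →ₗ[K] LinearMap.ker (Y - 1)) : Y * jmap Y g = jmap Y g := by
  ext v
  rw [Module.End.mul_apply, jmap_apply]
  have h := (g ((LinearMap.range (Y - 1)).mkQ v)).2
  rw [LinearMap.mem_ker, LinearMap.sub_apply, Module.End.one_apply, sub_eq_zero] at h
  exact h

theorem jmap_mul (Y : Module.End K V)
    (g : (V ⧸ LinearMap.range (Y - 1)) →ₗ[K] LinearMap.ker (Y - 1)) : jmap Y g * Y = jmap Y g := by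
  ext v
  rw [Module.End.mul_apply, jmap_apply, jmap_apply]
  congr 2
  rw [← sub_eq_zero, ← map_sub]
  have : Y v - v ∈ LinearMap.range (Y - 1) := ⟨v, by simp⟩
  rw [Submodule.mkQ_apply, Submodule.Quotient.mk_eq_zero]
  exact this

theorem finrank_jmap [FiniteDimensional K V] (Y : Module.End K V) :
    Module.finrank K ((V ⧸ LinearMap.range (Y - 1)) →ₗ[K] LinearMap.ker (Y - 1)) =
      Module.finrank K (LinearMap.ker (Y - 1)) ^ 2 := by
  rw [Module.finrank_linearMap, sq]
  congr 1
  have h1 := Submodule.finrank_quotient_add_finrank (LinearMap.range (Y - 1))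
  have h2 := LinearMap.finrank_range_add_finrank_ker (Y - 1)
  omega

end Hom

variable {K : Type*} [Field K] {V : Type*} [AddCommGroup V] [Module K V] {G : Type*} [Group G]

theorem finrank_fixed_case_C [IsAlgClosed K] [FiniteDimensional K V] [Nontrivial V] [Finite G]
    (ρ : G →* Module.End K V) (hirr : IsIrr ρ) (hfaith : Function.Injective ρ)
    {p : ℕ} (hp : p.Prime) (hp5 : 5 ≤ p) {x : G} (hx : x ^ p = 1)
    (E : Subgroup G) [hE : E.Normal]
    (hcomm : ∀ a ∈ E, ∀ b ∈ E, ⁅a, b⁆ ∈ Subgroup.center G)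
    (hnd : ∀ h ∈ E, (∀ e ∈ E, e * h = h * e) → h ∈ Subgroup.center G)
    (hchar : (Nat.card E : K) ≠ 0)
    (hxE : ∃ e ∈ E, ⁅x, e⁆ ∉ Subgroup.center G)
    (hcase : (∀ a ∈ E, a ^ p ∈ Subgroup.center G → a ∈ Subgroup.center G) ∨
      p ^ 2 * Nat.card {e : E // ⁅x, (e : G)⁆ ∈ Subgroup.center G} ≤ Nat.card E) :
    4 * Module.finrank K (LinearMap.ker (ρ x - 1)) ^ 2 < Module.finrank K V ^ 2 := by
  classical
  have : Fintype E := Fintype.ofFinite E
  have hD : 0 < Module.finrank K V := Module.finrank_pos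
  have hcharE : (Fintype.card E : K) ≠ 0 := by rwa [Nat.card_eq_fintype_card] at hchar
  let σ : E →* Module.End K V := ρ.comp E.subtype
  have hσ : ∀ e : E, σ e = ρ e := fun e => rfl
  have hscal : ∀ z ∈ Subgroup.center G, ∃ c : K, ρ z = c • 1 := by
    intro z hz
    refine schur hirr _ fun g => ?_
    rw [← map_mul, ← map_mul, Subgroup.mem_center_iff.1 hz g]
  obtain ⟨κ, hκ⟩ : ∃ κ : E → E → K, CommScalar σ κ := by
    have h : ∀ a b : E, ∃ c : K, ρ ⁅(a : G), (b : G)⁆ = c • 1 := fun a b =>
      hscal _ (hcomm a a.2 b b.2)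
    choose κ hκ using h
    refine ⟨κ, ⟨fun a b => ?_⟩⟩
    have h1 : (a : G) * b = ⁅(a : G), (b : G)⁆ * (b * a) := by rw [commutatorElement_def]; group
    rw [hσ, hσ, ← map_mul, h1, map_mul, hκ, smul_mul_assoc, one_mul, map_mul]
  have hrad : ∀ e : E, e ∈ hκ.rad ↔ (e : G) ∈ Subgroup.center G := by
    intro e
    constructor
    · intro he
      apply hnd _ e.2
      intro h hh
      apply hfaith
      have h1 := hκ.comm ⟨h, hh⟩ e
      rw [hκ.mem_rad.1 he, one_smul] at h1
      rw [map_mul, map_mul]; exact h1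
    · intro he h
      apply scal_inj σ (e * h)
      rw [map_mul, ← hκ.comm, one_smul, ← map_mul, ← map_mul]
      congr 1
      exact Subtype.ext (Subgroup.mem_center_iff.1 he h)
  have hZ : ∀ z ∈ hκ.rad, ∃ c : K, σ z = c • 1 := fun z hz => hscal _ ((hrad z).1 hz)
  let α : MulAut E := MulAut.conjNormal x
  have hα : ∀ e : E, ((α e : E) : G) = x * e * x⁻¹ := fun e => MulAut.conjNormal_apply x e
  have hYY' : ρ x * ρ x⁻¹ = 1 := by rw [← map_mul, mul_inv_cancel, map_one]
  have hY'Y : ρ x⁻¹ * ρ x = 1 := by rw [← map_mul, inv_mul_cancel, map_one]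
  have hY : ∀ h, ρ x * σ h = σ (α h) * ρ x := by
    intro h
    rw [hσ, hσ, hα, ← map_mul, ← map_mul, inv_mul_cancel_right]
  have hcc : ∀ e : E, ⁅x, (e : G)⁆ ∈ Subgroup.center G ↔ α e * e⁻¹ ∈ hκ.rad := by
    intro e
    rw [hrad, Subgroup.coe_mul, hα, Subgroup.coe_inv, commutatorElement_def]
  have hradn : ∀ a b : E, a * b ∈ hκ.rad ↔ b * a ∈ hκ.rad := by
    intro a b
    rw [hrad, hrad]
    exact (inferInstance : (Subgroup.center G).Normal).mem_comm_iff
  have hαrad : ∀ e : E, α e ∈ hκ.rad ↔ e ∈ hκ.rad := by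
    intro e
    rw [hrad, hrad, hα]
    constructor
    · intro h
      have := (inferInstance : (Subgroup.center G).Normal).conj_mem _ h x⁻¹
      have h2 : x⁻¹ * (x * (e : G) * x⁻¹) * x⁻¹⁻¹ = e := by group
      rwa [h2] at this
    · intro h
      exact (inferInstance : (Subgroup.center G).Normal).conj_mem _ h x
  have hαp : α ^ p = 1 := by
    change (MulAut.conjNormal x) ^ p = 1
    rw [← map_pow, hx, map_one]
  -- the permutation of the quotient
  let τ : Equiv.Perm (E ⧸ hκ.rad) := Quotient.congr α.toEquiv (by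
    intro a b
    rw [QuotientGroup.leftRel_apply, QuotientGroup.leftRel_apply]
    change _ ↔ (α a)⁻¹ * α b ∈ hκ.rad
    rw [← map_inv, ← map_mul, hαrad])
  have hτ : ∀ e : E, τ (e : E ⧸ hκ.rad) = ((α e : E) : E ⧸ hκ.rad) := fun e => rfl
  have hτpow : ∀ (n : ℕ) (e : E), (τ ^ n) (e : E ⧸ hκ.rad) = (((α ^ n) e : E) : E ⧸ hκ.rad) := by
    intro n
    induction n with
    | zero => intro e; simp
    | succ n ih =>
      intro e
      rw [pow_succ, Equiv.Perm.mul_apply, hτ, ih, pow_succ, MulAut.mul_apply]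
  have hτp : τ ^ p = 1 := by
    ext q
    induction q using QuotientGroup.induction_on with
    | H e => rw [hτpow, hαp]; rfl
  obtain ⟨R, hRne, hRcard, hR⟩ := exists_transversal τ hp hτp
  set Fx := Finset.univ.filter (fun i => τ i = i) with hFx
  have hfixiff : ∀ e : E, τ (e : E ⧸ hκ.rad) = e ↔ ⁅x, (e : G)⁆ ∈ Subgroup.center G := by
    intro e
    rw [hτ, eq_comm, QuotientGroup.eq, hcc, hradn]
  -- vanishing of components spreads over orbits
  set Y := ρ x with hYdef
  have hspread : ∀ (f : Module.End K V), Y * f = f → f * Y = f → ∀ r : E ⧸ hκ.rad,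
      Phi σ r.out f = 0 → ∀ (n : ℕ) (e : E), (τ ^ n) r = e → Phi σ e f = 0 := by
    intro f h1 h2 r hr n e hne
    have h3 : ∀ m : ℕ, Phi σ ((α ^ m) r.out) f = 0 := by
      intro m
      induction m with
      | zero => simpa using hr
      | succ m ih =>
        rw [pow_succ', MulAut.mul_apply]
        exact Phi_conj hYY' hY'Y hY _ f (by rw [h1, h2]) ih
    have h4 : (τ ^ n) r = (((α ^ n) r.out : E) : E ⧸ hκ.rad) := by
      conv_lhs => rw [← QuotientGroup.out_eq' r]
      exact hτpow n _
    rw [h4, QuotientGroup.eq] at hne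
    have h5 : e = (α ^ n) r.out * (((α ^ n) r.out)⁻¹ * e) := by group
    rw [h5]
    exact Phi_mul_rad (hZ _ hne) _ f (h3 n)
  -- the dimension inequality
  have hdim := card_quotient_mul_finrank_Cen_le hκ hcharE
  rw [Nat.card_eq_fintype_card] at hdim
  set d := Module.finrank K (Cen σ) with hd
  set X := Fintype.card (E ⧸ hκ.rad) with hX
  set b := Module.finrank K (LinearMap.ker (Y - 1)) with hb
  set D := Module.finrank K V with hDdef
  have hZcard : (Nat.card hκ.rad : K) ≠ 0 := by
    intro h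
    apply hchar
    rw [Subgroup.card_eq_card_quotient_mul_card_subgroup hκ.rad, Nat.cast_mul, h, mul_zero]
  have hchR : (Y * 1 : Module.End K V) = Y := mul_one _
  rcases hcase with hcase | hcase
  · -- coprime case
    have hbd : b ^ 2 ≤ R.card * d := by
      rw [hb, ← finrank_jmap]
      apply finrank_le_of_separating (W := fun _ : E ⧸ hκ.rad => Cen σ) R
        (fun q => (Phi σ q.out) ∘ₗ jmap Y) (fun _ _ => le_rfl)
      intro g hg
      apply jmap_injective Y
      rw [map_zero]
      set f := jmap Y g with hf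
      have hf1 : Y * f = f := mul_jmap Y g
      have hf2 : f * Y = f := jmap_mul Y g
      have hvan : ∀ e : E, ⁅x, (e : G)⁆ ∉ Subgroup.center G → Phi σ e f = 0 := by
        intro e he
        rw [← hfixiff] at he
        obtain ⟨r, hr, n, hn⟩ := hR _ he
        exact hspread f hf1 hf2 r (hg r hr) n e hn
      -- scalars
      have hκα : ∀ a b : E, κ (α a) (α b) = κ a b := by
        have hu : ∃ u : (Module.End K V)ˣ, (u : Module.End K V) = Y := ⟨⟨Y, ρ x⁻¹, hYY', hY'Y⟩, rfl⟩
        obtain ⟨u, hu⟩ := hu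
        exact fun a b => hκ.equiv_apply (Y := u) (σ := α) (by rw [hu]; exact hY) a b
      have hperp : ∀ h e : E, ⁅x, (e : G)⁆ ∈ Subgroup.center G → κ (α h * h⁻¹) e = 1 := by
        intro h e he
        rw [hcc] at he
        have h1 : κ (α h) e = κ h e := by
          have h2 : κ (α h) (α e) = κ (α h) (α e * e⁻¹) * κ (α h) e := by
            rw [← hκ.mul_right, inv_mul_cancel_right]
          rw [hκ.mem_rad.1 he, one_mul, hκα] at h2
          exact h2.symm
        rw [hκ.mul_left, hκ.inv_left, h1, mul_inv_cancel₀ (hκ.ne_zero _ _)]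
      -- `f` commutes with all `[x,h]`
      have hfcomm : ∀ h : E, σ (α h * h⁻¹) * f = f * σ (α h * h⁻¹) := by
        intro h
        have h1 := sum_Phi hκ hcharE hZ f
        have h2 : σ (α h * h⁻¹) * ((Nat.card hκ.rad : K) • f) =
            ((Nat.card hκ.rad : K) • f) * σ (α h * h⁻¹) := by
          rw [← h1, Finset.mul_sum, Finset.sum_mul]
          apply Finset.sum_congr rfl
          intro e _
          by_cases he : ⁅x, (e : G)⁆ ∈ Subgroup.center G
          · rw [← mul_assoc, hκ.comm, hperp h e he, one_smul, mul_assoc,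
              (Phi σ e f).2 (α h * h⁻¹), mul_assoc]
          · rw [hvan e he]; simp
        rw [mul_smul_comm, smul_mul_assoc] at h2
        exact smul_right_injective _ hZcard h2
      -- a noncentral `w = [x, [x, u]]`
      obtain ⟨u0, hu0E, hu0⟩ := hxE
      let u1 : E := α ⟨u0, hu0E⟩ * (⟨u0, hu0E⟩ : E)⁻¹
      have hu1 : (u1 : G) = ⁅x, u0⁆ := by
        simp only [u1, Subgroup.coe_mul, hα, Subgroup.coe_inv, commutatorElement_def]
      let w : E := α u1 * u1⁻¹
      have hw : (w : G) = ⁅x, ⁅x, u0⁆⁆ := by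
        have : (w : G) = ⁅x, (u1 : G)⁆ := by
          simp only [w, Subgroup.coe_mul, hα, Subgroup.coe_inv, commutatorElement_def]
        rw [this, hu1]
      have hwnc : (w : G) ∉ Subgroup.center G := by
        rw [hw]
        exact fun h => hu0 (comm_mem_center_of_comm_comm hE hx hcase hu0E h)
      have hw2 : ⁅x, (w : G)⁆ ∉ Subgroup.center G := by
        rw [hw]
        intro h
        have hu1E : ⁅x, u0⁆ ∈ E := by rw [← hu1]; exact u1.2
        have := comm_mem_center_of_comm_comm hE hx hcase hu1E h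
        exact hwnc (by rw [hw]; exact this)
      obtain ⟨h0, hh0⟩ : ∃ h : E, κ (α h * h⁻¹) w ≠ 1 := by
        by_contra hcon
        push Not at hcon
        apply hw2
        rw [hcc, hκ.mem_rad]
        intro h'
        obtain ⟨h, rfl⟩ : ∃ h, α h = h' := ⟨α.symm h', α.apply_symm_apply h'⟩
        have h1 : κ (α h) w = κ h w := by
          have := hcon h
          rw [hκ.mul_left, hκ.inv_left] at this
          exact (mul_inv_eq_one₀ (hκ.ne_zero _ _)).1 this
        rw [hκ.mul_right, hκ.inv_right, hκα, h1, mul_inv_cancel₀ (hκ.ne_zero _ _)]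
      -- `w f = f`
      have hwf : σ w * f = f := by
        have hc := hfcomm ⟨u0, hu0E⟩
        change σ u1 * f = f * σ u1 at hc
        have h1 : σ (α u1) = σ w * σ u1 := by
          rw [← map_mul]; congr 1; simp [w]
        have h2 : Y * (σ u1 * f) = σ w * (σ u1 * f) := by
          rw [← mul_assoc, hY, h1, mul_assoc, mul_assoc, hf1]
        have h3 : Y * (σ u1 * f) = σ u1 * f := by
          rw [hc, ← mul_assoc, hf1]
        have h4 : σ w * f * σ u1 = f * σ u1 := by
          rw [mul_assoc, ← hc, ← h2, h3]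
        have h5 : σ u1 * σ u1⁻¹ = 1 := by rw [← map_mul, mul_inv_cancel, map_one]
        have h6 := congrArg (fun T => T * σ u1⁻¹) h4
        simp only [mul_assoc, h5, mul_one] at h6
        exact h6
      set v0 : E := α h0 * h0⁻¹ with hv0
      have hvf : σ v0 * f = f * σ v0 := hfcomm h0
      have h1 : σ v0 * f = κ v0 w • (σ v0 * f) := by
        calc σ v0 * f = σ v0 * (σ w * f) := by rw [hwf]
          _ = (κ v0 w • (σ w * σ v0)) * f := by rw [← mul_assoc, hκ.comm]
          _ = κ v0 w • (σ w * (σ v0 * f)) := by rw [smul_mul_assoc, mul_assoc]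
          _ = κ v0 w • (σ w * f * σ v0) := by rw [hvf, mul_assoc]
          _ = κ v0 w • (σ v0 * f) := by rw [hwf, hvf]
      have h2 : (κ v0 w - 1) • (σ v0 * f) = 0 := by
        rw [sub_smul, one_smul, ← h1, sub_self]
      have h3 : σ v0 * f = 0 := (smul_eq_zero.1 h2).resolve_left (sub_ne_zero.2 hh0)
      have h4 : σ v0⁻¹ * σ v0 = 1 := by rw [← map_mul, inv_mul_cancel, map_one]
      calc f = σ v0⁻¹ * (σ v0 * f) := by rw [← mul_assoc, h4, one_mul]
        _ = 0 := by rw [h3, mul_zero]
    have h1 : p * b ^ 2 ≤ D ^ 2 := by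
      calc p * b ^ 2 ≤ p * (R.card * d) := Nat.mul_le_mul_left _ hbd
        _ = (p * R.card) * d := by ring
        _ ≤ X * d := Nat.mul_le_mul_right _ (by omega)
        _ ≤ D ^ 2 := hdim
    rcases Nat.eq_zero_or_pos b with h0 | h0
    · rw [h0]; positivity
    · have h2 : 0 < b ^ 2 := by positivity
      have h3 : 5 * b ^ 2 ≤ p * b ^ 2 := Nat.mul_le_mul_right _ hp5
      omega
  · -- the other case
    have hbd : b ^ 2 ≤ (R ∪ Fx).card * d := by
      rw [hb, ← finrank_jmap]
      apply finrank_le_of_separating (W := fun _ : E ⧸ hκ.rad => Cen σ) (R ∪ Fx)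
        (fun q => (Phi σ q.out) ∘ₗ jmap Y) (fun _ _ => le_rfl)
      intro g hg
      apply jmap_injective Y
      rw [map_zero]
      set f := jmap Y g with hf
      have hf1 : Y * f = f := mul_jmap Y g
      have hf2 : f * Y = f := jmap_mul Y g
      have hvan : ∀ e : E, Phi σ e f = 0 := by
        intro e
        by_cases he : τ (e : E ⧸ hκ.rad) = e
        · exact hspread f hf1 hf2 e (hg e (Finset.mem_union_right _ (by rw [hFx]; simp [he]))) 0 e
            (by simp)
        · obtain ⟨r, hr, n, hn⟩ := hR _ he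
          exact hspread f hf1 hf2 r (hg r (Finset.mem_union_left _ hr)) n e hn
      have h1 := sum_Phi hκ hcharE hZ f
      rw [Finset.sum_eq_zero (fun e _ => by rw [hvan e]; simp)] at h1
      exact (smul_eq_zero.1 h1.symm).resolve_left hZcard
    have hdisj : Disjoint R Fx := by
      rw [Finset.disjoint_left]
      intro i hi hi'
      rw [hFx, Finset.mem_filter] at hi'
      exact hRne i hi hi'.2
    rw [Finset.card_union_of_disjoint hdisj] at hbd
    have hfix : p ^ 2 * Fx.card ≤ X := by
      have h2 : Nat.card {e : E // ⁅x, (e : G)⁆ ∈ Subgroup.center G} =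
          Nat.card hκ.rad * Fx.card := by
        have h3 := Nat.card_congr
          (QuotientGroup.preimageMkEquivSubgroupProdSet hκ.rad (Fx : Set (E ⧸ hκ.rad)))
        rw [Nat.card_prod, Nat.card_eq_card_toFinset (Fx : Set (E ⧸ hκ.rad)),
          Finset.toFinset_coe] at h3
        rw [← h3]
        apply Nat.card_congr
        refine Equiv.subtypeEquivRight (fun e => ?_)
        rw [Set.mem_preimage, Finset.mem_coe, hFx, Finset.mem_filter, hfixiff]
        simp
      rw [h2, Subgroup.card_eq_card_quotient_mul_card_subgroup hκ.rad, Nat.card_eq_fintype_card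
        (α := E ⧸ hκ.rad)] at hcase
      have h4 : 0 < Nat.card hκ.rad := Nat.card_pos
      have h5 : (p ^ 2 * Fx.card) * Nat.card hκ.rad ≤ X * Nat.card hκ.rad := by
        calc (p ^ 2 * Fx.card) * Nat.card hκ.rad = p ^ 2 * (Nat.card hκ.rad * Fx.card) := by ring
          _ ≤ _ := hcase
      exact Nat.le_of_mul_le_mul_right h5 h4
    obtain ⟨t, ht⟩ : ∃ t, p = t + 5 := ⟨p - 5, by omega⟩
    have h1 : p ^ 3 * (R.card + Fx.card) ≤ (p ^ 2 + p - 1) * X := by
      have e1 : p * R.card + Fx.card = X := hRcard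
      have e2 : (p - 1) * (p ^ 2 * Fx.card) ≤ (p - 1) * X := Nat.mul_le_mul_left _ hfix
      have e3 : p ^ 2 + p - 1 = p ^ 2 + (p - 1) := by omega
      have e4 : p ^ 3 * (R.card + Fx.card) =
          p ^ 2 * (p * R.card + Fx.card) + (p - 1) * (p ^ 2 * Fx.card) := by
        have e5 : p - 1 = t + 4 := by omega
        rw [e5, ht]; ring
      rw [e3, e4, e1, add_mul]
      exact Nat.add_le_add_left e2 _
    have h2 : p ^ 3 * b ^ 2 ≤ (p ^ 2 + p - 1) * D ^ 2 := by
      calc p ^ 3 * b ^ 2 ≤ p ^ 3 * ((R.card + Fx.card) * d) := Nat.mul_le_mul_left _ hbd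
        _ = (p ^ 3 * (R.card + Fx.card)) * d := by ring
        _ ≤ ((p ^ 2 + p - 1) * X) * d := Nat.mul_le_mul_right _ h1
        _ = (p ^ 2 + p - 1) * (X * d) := by ring
        _ ≤ (p ^ 2 + p - 1) * D ^ 2 := Nat.mul_le_mul_left _ hdim
    rcases Nat.eq_zero_or_pos b with h0 | h0
    · rw [h0]; positivity
    · have h3 : 0 < b ^ 2 := by positivity
      have h4 : 4 * (p ^ 2 + p - 1) < p ^ 3 := by
        have e5 : p ^ 2 + p - 1 = t ^ 2 + 11 * t + 29 := by
          rw [ht]
          have : (t + 5) ^ 2 + (t + 5) = t ^ 2 + 11 * t + 30 := by ring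
          omega
        rw [e5, ht]
        nlinarith [sq_nonneg t]
      have h5 : (p ^ 2 + p - 1) * (4 * b ^ 2) < (p ^ 2 + p - 1) * D ^ 2 := by
        calc (p ^ 2 + p - 1) * (4 * b ^ 2) = (4 * (p ^ 2 + p - 1)) * b ^ 2 := by ring
          _ < p ^ 3 * b ^ 2 := Nat.mul_lt_mul_of_pos_right h4 h3
          _ ≤ _ := h2
      exact Nat.lt_of_mul_lt_mul_left h5

end Cfsg.Agent.H456
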