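import Cfsg.Agent.H456.FixHalf8

set_option autoImplicit false
set_option linter.unusedSectionVars false

/-!
S3818: there are no transvections (application of the modular case to a chief factor).
-/

namespace Cfsg.Agent.H456

open scoped commutatorElement TensorProduct
open Cfsg.Agent.PLocal.HHBLinear

/-- the linear action on an elementary abelian group -/
noncomputable def linP {Q : Type*} [CommGroup Q] {P : Type*} [Group P] (p : ℕ) [Fact p.Prime]
    [Module (ZMod p) (Additive Q)] (φ : P →* MulAut Q) :
    P →* Module.End (ZMod p) (Additive Q) where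
  toFun g := AddMonoidHom.toZModLinearMap p (MonoidHom.toAdditive (φ g).toMonoidHom)
  map_one' := by
    apply LinearMap.ext
    intro v
    show Additive.ofMul (φ 1 v.toMul) = v
    rw [map_one]
    rfl
  map_mul' g h := by
    apply LinearMap.ext
    intro v
    show Additive.ofMul (φ (g * h) v.toMul) = Additive.ofMul (φ g (φ h v.toMul))
    rw [map_mul]
    rfl

theorem linP_apply {Q : Type*} [CommGroup Q] {P : Type*} [Group P] (p : ℕ) [Fact p.Prime]
    [Module (ZMod p) (Additive Q)] (φ : P →* MulAut Q) (g : P) (q : Q) :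
    linP p φ g (Additive.ofMul q) = Additive.ofMul (φ g q) := rfl

/-- factoring a homomorphism to a monoid through its kernel -/
theorem exists_kerLift {H : Type*} [Group H] {M : Type*} [Monoid M] (ρ : H →* M) :
    ∃ ρ' : H ⧸ ρ.ker →* M, (∀ g : H, ρ' (QuotientGroup.mk' ρ.ker g) = ρ g) ∧
      Function.Injective ρ' := by
  refine ⟨QuotientGroup.lift ρ.ker ρ (fun g hg => hg), fun g => rfl, ?_⟩
  rw [← MonoidHom.ker_eq_bot_iff, eq_bot_iff]
  intro q hq
  induction q using QuotientGroup.induction_on with
  | H g =>
    rw [Subgroup.mem_bot, QuotientGroup.eq_one_iff]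
    exact hq

theorem card_fixed_mul_sq_le' {H : Type*} [Group H] [Finite H] [Group.IsSolvable H]
    {p : ℕ} (hp : p.Prime) (hp5 : 5 ≤ p) {y : H} (hy : y ^ p = 1)
    (hgen : Subgroup.normalClosure {y} = ⊤) (Q : Type*) [CommGroup Q] [Finite Q]
    (hQ : ∀ a : Q, a ^ p = 1) (φ : H →* MulAut Q)
    (hmin : ∀ L : Subgroup Q, (∀ g, ∀ a ∈ L, φ g a ∈ L) → L = ⊥ ∨ L = ⊤)
    (hyQ : ∃ b, φ y b ≠ b) :
    p ^ 2 * Nat.card {b : Q // φ y b = b} ≤ Nat.card Q := by
  classical
  have : Fact p.Prime := ⟨hp⟩
  obtain ⟨_⟩ : Nonempty (Module (ZMod p) (Additive Q)) :=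
    ⟨AddCommGroup.zmodModule (n := p) (fun v => by exact hQ v.toMul)⟩
  have : Finite (Additive Q) := inferInstanceAs (Finite Q)
  have : Module.Finite (ZMod p) (Additive Q) := Module.Finite.of_finite
  obtain ⟨ρ, hρ⟩ : ∃ ρ : H →* Module.End (ZMod p) (Additive Q), ∀ (g : H) (b : Q),
      ρ g (Additive.ofMul b) = Additive.ofMul (φ g b) := ⟨linP p φ, fun g b => rfl⟩
  obtain ⟨b0, hyb0⟩ := hyQ
  have hb01 : b0 ≠ 1 := by rintro rfl; exact hyb0 (map_one _)
  have : Nontrivial (Additive Q) := ⟨⟨Additive.ofMul b0, 0, fun h => hb01 h⟩⟩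
  obtain ⟨ρ', hρ', hρinj⟩ := exists_kerLift ρ
  have hirr : IsIrr ρ' := by
    intro U hU
    let L : Subgroup Q :=
      { carrier := {g | Additive.ofMul g ∈ U}
        one_mem' := U.zero_mem
        mul_mem' := by
          intro a b ha hb
          exact U.add_mem ha hb
        inv_mem' := by
          intro a ha
          exact U.neg_mem ha }
    rcases hmin L (fun g a ha => by
      have h1 := hU (QuotientGroup.mk' ρ.ker g) (Additive.ofMul a) ha
      rw [hρ', hρ] at h1
      exact h1) with h | h
    · left
      rw [eq_bot_iff]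
      intro u hu
      have h1 : Additive.toMul u ∈ L := hu
      rw [h, Subgroup.mem_bot] at h1
      rw [Submodule.mem_bot]
      exact h1
    · right
      rw [eq_top_iff]
      intro u _
      have h1 : Additive.toMul u ∈ L := by rw [h]; trivial
      exact h1
  have hy1 : ρ y ≠ 1 := by
    intro h
    apply hyb0
    have h1 := LinearMap.congr_fun h (Additive.ofMul b0)
    rw [hρ, Module.End.one_apply] at h1
    exact Additive.ofMul.injective h1
  have hmain := half_general p ρ' hirr hρinj hp hp5
    (x := QuotientGroup.mk' ρ.ker y) (by rw [← map_pow, hy, map_one])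
    (by
      intro h
      apply hy1
      have := hρ' y
      rw [h, map_one] at this
      exact this.symm)
    (by
      have h1 := Subgroup.map_normalClosure {y} (QuotientGroup.mk' ρ.ker)
        (QuotientGroup.mk'_surjective _)
      rw [hgen, Set.image_singleton, ← MonoidHom.range_eq_map,
        MonoidHom.range_eq_top.2 (QuotientGroup.mk'_surjective _)] at h1
      exact h1.symm) (Or.inl rfl)
  rw [hρ'] at hmain
  -- the fixed space is nonzero
  have hker : 0 < Module.finrank (ZMod p) (LinearMap.ker (ρ y - 1)) := by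
    rw [Nat.pos_iff_ne_zero]
    intro h0
    have hbot : LinearMap.ker (ρ y - 1) = ⊥ := Submodule.finrank_eq_zero.1 h0
    have hinj : Function.Injective ⇑(ρ y - 1) := LinearMap.ker_eq_bot.1 hbot
    have hchar : CharP (Module.End (ZMod p) (Additive Q)) p := charP_of_injective_algebraMap
      (algebraMap (ZMod p) (Module.End (ZMod p) (Additive Q))).injective p
    have hnil : (ρ y - 1) ^ p = 0 := by
      rw [sub_pow_char_of_commute p (Commute.one_right _), ← map_pow, hy, map_one,
        one_pow, sub_self]
    have hinjp : ∀ n : ℕ, Function.Injective ⇑((ρ y - 1) ^ n) := by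
      intro n
      induction n with
      | zero => exact fun a b h => h
      | succ n ih =>
        rw [pow_succ]
        exact ih.comp hinj
    obtain ⟨v, hv⟩ := exists_ne (0 : Additive Q)
    apply hv
    apply hinjp p
    rw [hnil]; rfl
  -- cardinalities
  have hc1 : Nat.card Q = p ^ Module.finrank (ZMod p) (Additive Q) := by
    have := Module.natCard_eq_pow_finrank (K := ZMod p) (V := Additive Q)
    rw [Nat.card_zmod] at this
    exact this
  have hc2 : Nat.card {b : Q // φ y b = b} =
      p ^ Module.finrank (ZMod p) (LinearMap.ker (ρ y - 1)) := by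
    have := Module.natCard_eq_pow_finrank (K := ZMod p) (V := LinearMap.ker (ρ y - 1))
    rw [Nat.card_zmod] at this
    rw [← this]
    refine Nat.card_congr (Equiv.subtypeEquiv Additive.ofMul ?_)
    intro b
    rw [LinearMap.mem_ker, LinearMap.sub_apply, Module.End.one_apply, sub_eq_zero, hρ]
    exact Additive.ofMul.injective.eq_iff.symm
  rw [hc1, hc2, ← pow_add]
  exact Nat.pow_le_pow_right hp.pos (by omega)

/-- application of the modular case to an elementary abelian minimal normal subgroup -/
theorem card_fixed_mul_sq_le {H : Type*} [Group H] [Finite H] [Group.IsSolvable H]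
    {p : ℕ} (hp : p.Prime) (hp5 : 5 ≤ p) {y : H} (hy : y ^ p = 1)
    (hgen : Subgroup.normalClosure {y} = ⊤) (B : Subgroup H) [hBn : B.Normal]
    (hB : ∀ a ∈ B, ∀ b ∈ B, a * b = b * a) (hBp : ∀ a ∈ B, a ^ p = 1)
    (hmin : ∀ L : Subgroup H, L.Normal → L ≤ B → L = ⊥ ∨ L = B)
    (hyB : ∃ b ∈ B, y * b ≠ b * y) :
    p ^ 2 * Nat.card {b : B // y * b = b * y} ≤ Nat.card B := by
  let _ : CommGroup B := { (inferInstance : Group B) with
    mul_comm := fun a b => Subtype.ext (hB a a.2 b b.2) }
  have hcoe : ∀ (g : H) (b : B), ((MulAut.conjNormal g b : B) : H) = g * b * g⁻¹ :=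
    fun g b => MulAut.conjNormal_apply g b
  have h := card_fixed_mul_sq_le' hp hp5 hy hgen B
    (fun a => Subtype.ext (hBp a a.2)) (MulAut.conjNormal (H := B))
    (by
      intro L hL
      have hLn : (L.map B.subtype).Normal := by
        constructor
        rintro _ ⟨a, ha, rfl⟩ g
        refine ⟨MulAut.conjNormal g a, hL g a ha, ?_⟩
        exact hcoe g a
      rcases hmin _ hLn (by rintro _ ⟨a, _, rfl⟩; exact a.2) with h | h
      · left
        rw [eq_bot_iff]
        intro a ha
        have h1 : (a : H) ∈ L.map B.subtype := ⟨a, ha, rfl⟩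
        rw [h, Subgroup.mem_bot] at h1
        exact Subtype.ext h1
      · right
        rw [eq_top_iff]
        intro a _
        have h1 : (a : H) ∈ L.map B.subtype := by rw [h]; exact a.2
        obtain ⟨b, hb, hab⟩ := h1
        have : b = a := Subtype.ext hab
        rwa [← this])
    (by
      obtain ⟨b, hb, hyb⟩ := hyB
      refine ⟨⟨b, hb⟩, fun hc => hyb ?_⟩
      have h1 := congrArg Subtype.val hc
      rw [hcoe] at h1
      exact mul_inv_eq_iff_eq_mul.1 h1)
  have hc : Nat.card {b : B // MulAut.conjNormal y b = b} =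
      Nat.card {b : B // y * b = b * y} := by
    refine Nat.card_congr (Equiv.subtypeEquivRight ?_)
    intro b
    constructor
    · intro h1
      have h2 := congrArg Subtype.val h1
      rw [hcoe] at h2
      exact mul_inv_eq_iff_eq_mul.1 h2
    · intro h1
      apply Subtype.ext
      rw [hcoe, h1, mul_inv_cancel_right]
  rw [← hc]
  exact h

theorem transvFree {G : Type*} [Group G] [Finite G] [Group.IsSolvable G]
    {p : ℕ} (hp : p.Prime) (hp5 : 5 ≤ p) {x : G} (hx : x ^ p = 1)
    (hgen : Subgroup.normalClosure {x} = ⊤) : TransvFree x p := by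
  classical
  intro E hE hEc hmin hcomm hEp hxE
  let Z := Subgroup.center G
  let π := QuotientGroup.mk' Z
  have hπs : Function.Surjective π := QuotientGroup.mk'_surjective _
  have hπ1 : ∀ g, π g = 1 ↔ g ∈ Z := fun g => by
    rw [QuotientGroup.mk'_apply, QuotientGroup.eq_one_iff]
  let B : Subgroup (G ⧸ Z) := E.map π
  have hB : B.Normal := hE.map π hπs
  have h1 := card_fixed_mul_sq_le hp hp5 (y := π x) (by rw [← map_pow, hx, map_one])
    (by
      have h1 := Subgroup.map_normalClosure {x} π hπs
      rw [hgen, Set.image_singleton, ← MonoidHom.range_eq_map,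
        MonoidHom.range_eq_top.2 hπs] at h1
      exact h1.symm) B
    (by
      rintro _ ⟨a, ha, rfl⟩ _ ⟨b, hb, rfl⟩
      exact mk_center_commute.2 (hcomm a ha b hb))
    (by
      rintro _ ⟨a, ha, rfl⟩
      rw [← map_pow, hπ1]
      exact hEp a ha)
    (by
      intro L hL hLB
      have hL' : (L.comap π ⊓ E).Normal := inferInstance
      rcases hmin _ hL' inf_le_right with h | h
      · left
        rw [eq_bot_iff]
        intro l hl
        obtain ⟨a, ha, rfl⟩ := hLB hl
        rw [Subgroup.mem_bot, hπ1]
        exact h (Subgroup.mem_inf.2 ⟨hl, ha⟩)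
      · right
        apply le_antisymm hLB
        rintro _ ⟨a, ha, rfl⟩
        rw [SetLike.mem_coe, ← h] at ha
        exact (Subgroup.mem_inf.1 ha).1)
    (by
      obtain ⟨e, he, hxe⟩ := hxE
      refine ⟨π e, ⟨e, he, rfl⟩, ?_⟩
      intro hc
      exact hxe (mk_center_commute.1 hc))
  -- cardinalities
  let φ : E →* G ⧸ Z := π.comp E.subtype
  have hrange : φ.range = B := by
    rw [MonoidHom.range_comp]
    simp [B]
  have hEcard : Nat.card E = Nat.card φ.ker * Nat.card B := by
    rw [← hrange, mul_comm, ← Subgroup.index_ker]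
    rw [Nat.mul_comm]
    exact (Subgroup.card_mul_index _).symm
  -- count of fixed elements
  have hfcard : Nat.card {e : E // ⁅x, (e : G)⁆ ∈ Z} =
      Nat.card φ.ker * Nat.card {b : B // π x * b = b * π x} := by
    let F : Subgroup E :=
      { carrier := {e | π x * φ e = φ e * π x}
        one_mem' := by simp
        mul_mem' := by
          intro a b ha hb
          have ha' : Commute (π x) (φ a) := ha
          have hb' : Commute (π x) (φ b) := hb
          change Commute (π x) (φ (a * b))
          rw [map_mul]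
          exact ha'.mul_right hb'
        inv_mem' := by
          intro a ha
          have ha' : Commute (π x) (φ a) := ha
          change Commute (π x) (φ a⁻¹)
          rw [map_inv]
          exact ha'.inv_right }
    have hF : Nat.card {e : E // ⁅x, (e : G)⁆ ∈ Z} = Nat.card F := by
      apply Nat.card_congr
      refine Equiv.subtypeEquivRight (fun e => ?_)
      exact mk_center_commute.symm
    rw [hF]
    let ψ : F →* G ⧸ Z := φ.comp F.subtype
    have h2 : Nat.card F = Nat.card ψ.ker * Nat.card ψ.range := by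
      rw [← Subgroup.index_ker]
      exact (Subgroup.card_mul_index _).symm
    rw [h2]
    congr 1
    · apply Nat.card_congr
      refine ⟨fun t => ⟨t.1.1, t.2⟩, fun t => ⟨⟨t.1, ?_⟩, t.2⟩, fun t => rfl, fun t => rfl⟩
      have ht : φ t.1 = 1 := t.2
      change π x * φ t.1 = φ t.1 * π x
      rw [ht, mul_one, one_mul]
    · apply Nat.card_congr
      refine ⟨fun t => ⟨⟨t.1, ?_⟩, ?_⟩, fun t => ⟨t.1.1, ?_⟩, fun t => rfl, fun t => rfl⟩
      · obtain ⟨e, he⟩ := t.2
        rw [← he, ← hrange]
        exact ⟨e.1, rfl⟩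
      · obtain ⟨e, he⟩ := t.2
        change π x * t.1 = t.1 * π x
        rw [← he]
        exact e.2
      · have h3 : (t.1 : G ⧸ Z) ∈ φ.range := by rw [hrange]; exact t.1.2
        obtain ⟨e, he⟩ := h3
        refine ⟨⟨e, ?_⟩, he⟩
        change π x * φ e = φ e * π x
        rw [he]; exact t.2
  rw [hEcard]
  change p ^ 2 * Nat.card {e : E // ⁅x, (e : G)⁆ ∈ Z} ≤ _
  rw [hfcard]
  calc p ^ 2 * (Nat.card φ.ker * Nat.card {b : B // π x * b = b * π x}) =
      Nat.card φ.ker * (p ^ 2 * Nat.card {b : B // π x * b = b * π x}) := by ring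
    _ ≤ Nat.card φ.ker * Nat.card B := Nat.mul_le_mul_left _ h1

end Cfsg.Agent.H456
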