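import Cfsg.Agent.H456.FourB

set_option autoImplicit false
set_option linter.unusedSectionVars false

/-!
S3814: a dichotomy for finite solvable groups all of whose abelian normal subgroups are cyclic.
-/

namespace Cfsg.Agent.H456

open Cfsg.Agent
open scoped commutatorElement

/-- In a finite solvable group all of whose abelian normal subgroups are cyclic, either there is
a self-centralizing cyclic normal subgroup, or a nonabelian normal subgroup `E` of prime exponent
(if the prime is odd) with commutators in a normal subgroup `⟨z⟩` of prime order. -/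
theorem cyclic_dichotomy {H : Type*} [Group H] [Finite H] [Group.IsSolvable H]
    (hab : ∀ A : Subgroup H, A.Normal → (∀ a ∈ A, ∀ b ∈ A, a * b = b * a) → IsCyclic A) :
    (∃ F : Subgroup H, F.Normal ∧ (∀ a ∈ F, ∀ b ∈ F, a * b = b * a) ∧ IsCyclic F ∧
      ∀ g : H, (∀ f ∈ F, g * f = f * g) → g ∈ F) ∨
    (∃ t : ℕ, t.Prime ∧ ∃ E : Subgroup H, E.Normal ∧ ∃ z ∈ E, z ≠ 1 ∧ z ^ t = 1 ∧
      (Subgroup.zpowers z).Normal ∧ (∀ e ∈ E, e * z = z * e) ∧
      (∀ a ∈ E, ∀ b ∈ E, ⁅a, b⁆ ∈ Subgroup.zpowers z) ∧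
      (∃ a ∈ E, ∃ b ∈ E, a * b ≠ b * a) ∧ (t ≠ 2 → ∀ a ∈ E, a ^ t = 1)) := by
  classical
  -- a maximal abelian normal subgroup
  obtain ⟨F, ⟨hFn, hFab⟩, hFmax⟩ : ∃ F : Subgroup H, (F.Normal ∧ ∀ a ∈ F, ∀ b ∈ F, a * b = b * a) ∧
      ∀ L : Subgroup H, L.Normal → (∀ a ∈ L, ∀ b ∈ L, a * b = b * a) → F ≤ L → L ≤ F := by
    have hne : ({F : Subgroup H | F.Normal ∧ ∀ a ∈ F, ∀ b ∈ F, a * b = b * a}).Nonempty :=
      ⟨⊥, inferInstance, by
        intro a ha b hb
        rw [Subgroup.mem_bot] at ha hb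
        rw [ha, hb]⟩
    obtain ⟨F, hF⟩ := Set.Finite.exists_maximal (Set.toFinite _) hne
    exact ⟨F, hF.1, fun L hL hLab hle => hF.2 ⟨hL, hLab⟩ hle⟩
  have hFcyc := hab F hFn hFab
  by_cases hself : ∀ g : H, (∀ f ∈ F, g * f = f * g) → g ∈ F
  · exact Or.inl ⟨F, hFn, hFab, hFcyc, hself⟩
  right
  -- the centralizer
  let C : Subgroup H := Subgroup.centralizer (F : Set H)
  have hCn : C.Normal := inferInstance
  have hCmem : ∀ g, g ∈ C ↔ ∀ f ∈ F, g * f = f * g := by
    intro g
    rw [Subgroup.mem_centralizer_iff]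
    constructor
    · intro h f hf; exact (h f hf).symm
    · intro h f hf; exact (h f hf).symm
  have hCF : ¬ C ≤ F := by
    intro hle
    apply hself
    intro g hg
    exact hle ((hCmem g).2 hg)
  obtain ⟨N, ⟨hNn, hNC, hNF⟩, hNmin⟩ : ∃ N : Subgroup H, (N.Normal ∧ N ≤ C ∧ ¬ N ≤ F) ∧
      ∀ L : Subgroup H, L.Normal → L ≤ N → ¬ L ≤ F → N ≤ L := by
    have hne : ({N : Subgroup H | N.Normal ∧ N ≤ C ∧ ¬ N ≤ F}).Nonempty :=
      ⟨C, hCn, le_rfl, hCF⟩
    obtain ⟨N, hN⟩ := Set.Finite.exists_minimal (Set.toFinite _) hne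
    exact ⟨N, hN.1, fun L hL hLN hLF => hN.2 ⟨hL, hLN.trans hN.1.2.1, hLF⟩ hLN⟩
  have hNbot : N ≠ ⊥ := fun h => hNF (by rw [h]; exact bot_le)
  have hcommF : ∀ a ∈ N, ∀ b ∈ N, ⁅a, b⁆ ∈ F := by
    intro a ha b hb
    have hlt := Group.IsSolvable.commutator_lt_of_ne_bot hNbot
    have h1 : ⁅N, N⁆ ≤ F := by
      by_contra hcon
      exact hlt.not_ge (hNmin _ inferInstance hlt.le hcon)
    exact h1 (Subgroup.commutator_mem_commutator ha hb)
  have hNcF : ∀ a ∈ N, ∀ f ∈ F, a * f = f * a := fun a ha => (hCmem a).1 (hNC ha)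
  -- `N` is not abelian
  have hNnab : ∃ a ∈ N, ∃ b ∈ N, a * b ≠ b * a := by
    by_contra hcon
    push Not at hcon
    apply hNF
    have h1 : N ⊔ F ≤ F := by
      apply hFmax _ inferInstance _ le_sup_right
      intro x hx y hy
      obtain ⟨a, ha, f, hf, rfl⟩ := Subgroup.mem_sup_of_normal_left.1 hx
      obtain ⟨b, hb, g, hg, rfl⟩ := Subgroup.mem_sup_of_normal_left.1 hy
      calc a * f * (b * g) = a * (f * b) * g := by group
        _ = a * (b * f) * g := by rw [hNcF b hb f hf]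
        _ = (a * b) * (f * g) := by group
        _ = (b * a) * (g * f) := by rw [hcon a ha b hb, hFab f hf g hg]
        _ = b * (a * g) * f := by group
        _ = b * (g * a) * f := by rw [hNcF a ha g hg]
        _ = b * g * (a * f) := by group
    exact le_sup_left.trans h1
  -- the prime
  obtain ⟨t, ht, a', ha'N, ha'F, ha't⟩ : ∃ t : ℕ, t.Prime ∧ ∃ a' ∈ N, a' ∉ F ∧ a' ^ t ∈ F := by
    obtain ⟨a, haN, haF⟩ := SetLike.not_le_iff_exists.1 hNF
    let n := orderOf (QuotientGroup.mk' F a)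
    have hn1 : n ≠ 1 := by
      intro h
      apply haF
      rw [orderOf_eq_one_iff, QuotientGroup.mk'_apply, QuotientGroup.eq_one_iff] at h
      exact h
    have hn0 : 0 < n := orderOf_pos _
    obtain ⟨t, ht, m, hm⟩ := Nat.exists_prime_and_dvd hn1
    have hm0 : m ≠ 0 := by rintro rfl; omega
    refine ⟨t, ht, a ^ m, N.pow_mem haN m, ?_, ?_⟩
    · intro h
      rw [← QuotientGroup.eq_one_iff, ← QuotientGroup.mk'_apply, map_pow,
        ← orderOf_dvd_iff_pow_eq_one] at h
      have h2 := Nat.le_of_dvd (Nat.pos_of_ne_zero hm0) h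
      have h3 : n ≤ m := h2
      rw [hm] at h3
      have := ht.two_le
      have := Nat.pos_of_ne_zero hm0
      nlinarith
    · rw [← pow_mul, mul_comm m t, ← hm, ← QuotientGroup.eq_one_iff, ← QuotientGroup.mk'_apply,
        map_pow]
      exact pow_orderOf_eq_one _
  have htF : ∀ a ∈ N, a ^ t ∈ F := by
    let M : Subgroup H :=
      { carrier := {n | n ∈ N ∧ n ^ t ∈ F}
        one_mem' := ⟨N.one_mem, by rw [one_pow]; exact F.one_mem⟩
        mul_mem' := by
          rintro a b ⟨ha, ha'⟩ ⟨hb, hb'⟩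
          refine ⟨N.mul_mem ha hb, ?_⟩
          rw [← QuotientGroup.eq_one_iff, ← QuotientGroup.mk'_apply, map_pow] at ha' hb' ⊢
          have hc : Commute (QuotientGroup.mk' F a) (QuotientGroup.mk' F b) := by
            rw [commute_iff_eq, ← commutatorElement_eq_one_iff_mul_comm, ← map_commutatorElement,
              QuotientGroup.mk'_apply, QuotientGroup.eq_one_iff]
            exact hcommF a ha b hb
          rw [map_mul, hc.mul_pow, ha', hb', one_mul]
        inv_mem' := by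
          rintro a ⟨ha, ha'⟩
          exact ⟨N.inv_mem ha, by rw [inv_pow]; exact F.inv_mem ha'⟩ }
    have hMn : M.Normal := by
      constructor
      rintro a ⟨ha, ha'⟩ g
      refine ⟨hNn.conj_mem a ha g, ?_⟩
      rw [conj_pow]
      exact hFn.conj_mem _ ha' g
    have h1 : N ≤ M := hNmin M hMn (fun a ha => ha.1) (fun hle => ha'F (hle ⟨ha'N, ha't⟩))
    intro a ha
    exact (h1 ha).2
  -- commutators
  have hcomm_t : ∀ a ∈ N, ∀ b ∈ N, ⁅a, b⁆ ^ t = 1 := by
    intro a ha b hb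
    have hcF := hcommF a ha b hb
    have hca : a * ⁅a, b⁆ = ⁅a, b⁆ * a := hNcF a ha _ hcF
    -- `a ^ n * b = ⁅a,b⁆ ^ n * (b * a ^ n)`
    have h1 : ∀ n : ℕ, a ^ n * b = ⁅a, b⁆ ^ n * (b * a ^ n) := by
      intro n
      induction n with
      | zero => simp
      | succ n ih =>
        have h2 : a * b = ⁅a, b⁆ * (b * a) := by rw [commutatorElement_def]; group
        have h3 : ∀ m : ℕ, a * ⁅a, b⁆ ^ m = ⁅a, b⁆ ^ m * a := fun m =>
          ((Commute.pow_right (show Commute a ⁅a, b⁆ from hca) m)).eq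
        calc a ^ (n + 1) * b = a * (a ^ n * b) := by rw [pow_succ']; group
          _ = a * ⁅a, b⁆ ^ n * (b * a ^ n) := by rw [ih]; group
          _ = ⁅a, b⁆ ^ n * (a * b) * a ^ n := by rw [h3]; group
          _ = ⁅a, b⁆ ^ (n + 1) * (b * a ^ (n + 1)) := by rw [h2, pow_succ, pow_succ']; group
    have h4 := h1 t
    have h5 : a ^ t * b = b * a ^ t := (hNcF b hb _ (htF a ha)).symm
    rw [h5] at h4
    exact (mul_eq_right.1 h4.symm)
  obtain ⟨a0, ha0, b0, hb0, hab0⟩ := hNnab
  set z := ⁅a0, b0⁆ with hz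
  have hz1 : z ≠ 1 := fun h => hab0 (commutatorElement_eq_one_iff_mul_comm.1 h)
  have hzF : z ∈ F := hcommF a0 ha0 b0 hb0
  have hzt : z ^ t = 1 := hcomm_t a0 ha0 b0 hb0
  have hzN : z ∈ N := by
    rw [hz, commutatorElement_def]
    exact N.mul_mem (N.mul_mem (N.mul_mem ha0 hb0) (N.inv_mem ha0)) (N.inv_mem hb0)
  have hzn : (Subgroup.zpowers z).Normal := by
    constructor
    intro y hy g
    obtain ⟨i, rfl⟩ := Subgroup.mem_zpowers_iff.1 hy
    rw [← conj_zpow]
    apply Subgroup.zpow_mem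
    apply mem_of_isCyclic hFcyc ht hzF (hFn.conj_mem _ hzF g) hz1 hzt
    rw [conj_pow, hzt, mul_one, mul_inv_cancel]
  have hcz : ∀ a ∈ N, ∀ b ∈ N, ⁅a, b⁆ ∈ Subgroup.zpowers z := by
    intro a ha b hb
    exact mem_of_isCyclic hFcyc ht hzF (hcommF a ha b hb) hz1 hzt (hcomm_t a ha b hb)
  refine ⟨t, ht, N, hNn, z, hzN, hz1, hzt, hzn, fun e he => hNcF e he z hzF, hcz,
    ⟨a0, ha0, b0, hb0, hab0⟩, ?_⟩
  intro ht2
  -- power map
  have hmulpow : ∀ a ∈ N, ∀ b ∈ N, (a * b) ^ t = a ^ t * b ^ t := by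
    intro a ha b hb
    apply Lib.CoprimeStab.mul_pow_prime_of_class_two ht ht2
    · exact (hNcF a ha _ (hcommF b hb a ha)).symm
    · exact (hNcF b hb _ (hcommF b hb a ha)).symm
    · exact (hNcF b hb _ (htF a ha)).symm
  let Ω : Subgroup H :=
    { carrier := {n | n ∈ N ∧ n ^ t = 1}
      one_mem' := ⟨N.one_mem, one_pow _⟩
      mul_mem' := by
        rintro a b ⟨ha, ha'⟩ ⟨hb, hb'⟩
        exact ⟨N.mul_mem ha hb, by rw [hmulpow a ha b hb, ha', hb', one_mul]⟩
      inv_mem' := by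
        rintro a ⟨ha, ha'⟩
        exact ⟨N.inv_mem ha, by rw [inv_pow, ha', inv_one]⟩ }
  have hΩn : Ω.Normal := by
    constructor
    rintro a ⟨ha, ha'⟩ g
    refine ⟨hNn.conj_mem a ha g, ?_⟩
    rw [conj_pow, ha', mul_one, mul_inv_cancel]
  by_cases hΩF : Ω ≤ F
  · exfalso
    -- power homomorphism
    let P : N →* F :=
      { toFun := fun a => ⟨(a : H) ^ t, htF a a.2⟩
        map_one' := by simp
        map_mul' := by
          intro a b
          apply Subtype.ext
          exact hmulpow a a.2 b b.2 }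
    have hPr : ∀ y ∈ P.range, ((y : F) : H) ∈ N := by
      rintro _ ⟨a, rfl⟩
      exact N.pow_mem a.2 t
    -- injection of `Fin t × (N ∩ F)` into `N`
    have ha0F : a0 ∉ F := fun h => hab0 (hNcF b0 hb0 a0 h).symm
    have hkercard : Nat.card P.ker ≤ t := by
      have h1 : Nat.card P.ker ≤ Nat.card (Subgroup.zpowers z) := by
        apply Nat.card_le_card_of_injective
          (fun a : P.ker => (⟨((a : N) : H), by
            have h2 : ((a : N) : H) ^ t = 1 := congrArg Subtype.val a.2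
            exact mem_of_isCyclic hFcyc ht hzF (hΩF ⟨(a : N).2, h2⟩) hz1 hzt h2⟩ :
              Subgroup.zpowers z))
        intro a b hab
        have h3 : ((a : N) : H) = ((b : N) : H) :=
          congrArg (fun t : Subgroup.zpowers z => (t : H)) hab
        exact Subtype.ext (Subtype.ext h3)
      rw [Nat.card_zpowers, orderOf_eq_of_pow ht hz1 hzt] at h1
      exact h1
    have hNcard : Nat.card N = Nat.card P.ker * Nat.card P.range := by
      rw [← Subgroup.index_ker]
      exact (Subgroup.card_mul_index _).symm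
    have hrcard : Nat.card P.range ≤ Nat.card (N ⊓ F : Subgroup H) := by
      apply Nat.card_le_card_of_injective
        (fun y : P.range => (⟨((y : F) : H), Subgroup.mem_inf.2 ⟨hPr y y.2, (y : F).2⟩⟩ :
          (N ⊓ F : Subgroup H)))
      intro a b hab
      have h3 : ((a : F) : H) = ((b : F) : H) :=
        congrArg (fun t : (N ⊓ F : Subgroup H) => (t : H)) hab
      exact Subtype.ext (Subtype.ext h3)
    let f : Fin t × (N ⊓ F : Subgroup H) → N := fun p =>
      ⟨a0 ^ (p.1 : ℕ) * p.2, N.mul_mem (N.pow_mem ha0 _) (Subgroup.mem_inf.1 p.2.2).1⟩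
    have hfinj : Function.Injective f := by
      have key : ∀ (i j : Fin t) (u v : (N ⊓ F : Subgroup H)), i < j →
          a0 ^ (i : ℕ) * (u : H) ≠ a0 ^ (j : ℕ) * (v : H) := by
        intro i j u v hij heq
        apply ha0F
        have hij' : (i : ℕ) < j := hij
        have h1 : a0 ^ ((j : ℕ) - i) = (u : H) * (v : H)⁻¹ := by
          have h2 : a0 ^ (j : ℕ) = a0 ^ (i : ℕ) * a0 ^ ((j : ℕ) - i) := by
            rw [← pow_add]; congr 1; omega
          rw [h2, mul_assoc] at heq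
          have h3 := mul_left_cancel heq
          rw [h3]; group
        have h4 : a0 ^ ((j : ℕ) - i) ∈ F := by
          rw [h1]
          exact F.mul_mem (Subgroup.mem_inf.1 u.2).2 (F.inv_mem (Subgroup.mem_inf.1 v.2).2)
        have hco : Nat.gcd ((j : ℕ) - i) t = 1 := by
          have := (Nat.Prime.coprime_iff_not_dvd ht).2
            (Nat.not_dvd_of_pos_of_lt (n := (j : ℕ) - i) (m := t) (by omega)
              (by have := j.2; omega))
          exact this.symm
        have h5 : a0 ^ (Nat.gcd ((j : ℕ) - i) t : ℤ) ∈ F := by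
          rw [Nat.gcd_eq_gcd_ab, zpow_add, zpow_mul, zpow_mul, zpow_natCast, zpow_natCast]
          exact F.mul_mem (F.zpow_mem h4 _) (F.zpow_mem (htF a0 ha0) _)
        rw [hco] at h5
        simpa using h5
      rintro ⟨i, u⟩ ⟨j, v⟩ heq
      have heq' : a0 ^ (i : ℕ) * (u : H) = a0 ^ (j : ℕ) * (v : H) := congrArg Subtype.val heq
      rcases lt_trichotomy i j with h | h | h
      · exact absurd heq' (key i j u v h)
      · subst h
        have := mul_left_cancel heq'
        rw [Prod.mk.injEq]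
        exact ⟨rfl, Subtype.ext this⟩
      · exact absurd heq'.symm (key j i v u h)
    have hfc : Nat.card N ≤ Nat.card (Fin t × (N ⊓ F : Subgroup H)) := by
      rw [Nat.card_prod, Nat.card_fin, hNcard]
      exact Nat.mul_le_mul hkercard hrcard
    have hfbij : Function.Bijective f := (Nat.bijective_iff_injective_and_card f).2
      ⟨hfinj, le_antisymm (Nat.card_le_card_of_injective f hfinj) hfc⟩
    obtain ⟨⟨i, u⟩, hiu⟩ := hfbij.2 ⟨b0, hb0⟩
    have h1 : a0 ^ (i : ℕ) * (u : H) = b0 := congrArg Subtype.val hiu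
    apply hab0
    rw [← h1]
    have h2 : a0 * (u : H) = u * a0 := hNcF a0 ha0 u (Subgroup.mem_inf.1 u.2).2
    calc a0 * (a0 ^ (i : ℕ) * (u : H)) = a0 ^ (i : ℕ) * (a0 * u) := by
          rw [← mul_assoc, ← pow_succ', pow_succ, mul_assoc]
      _ = a0 ^ (i : ℕ) * u * a0 := by rw [h2]; group
  · have h1 : N ≤ Ω := hNmin Ω hΩn (fun a ha => ha.1) hΩF
    intro a ha
    exact (h1 ha).2

end Cfsg.Agent.H456
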