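import Cfsg.Agent.H456.FourF

set_option autoImplicit false
set_option linter.unusedSectionVars false

/-!
S3814: the configuration of a `p'`-group acting irreducibly, case of cyclic abelian normal
subgroups.
-/

namespace Cfsg.Agent.H456

open Cfsg.Agent
open scoped commutatorElement

/-- the automorphism group of a finite cyclic group is commutative -/
theorem mulAut_comm_of_isCyclic {F : Type*} [Group F] [Finite F] (hF : IsCyclic F)
    (a b : MulAut F) : a * b = b * a := by
  apply (IsCyclic.mulAutMulEquiv F).injective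
  rw [map_mul, map_mul, mul_comm]

namespace CfgB

variable {H V : Type*} [Group H] [Finite H] [CommGroup V] [Finite V]
  {φ : H →* MulAut V} {P : Finset ℕ}

theorem cyclic_of_abelian (h : CfgB φ P) (A : Subgroup H) (hAn : A.Normal)
    (hA : ∀ a ∈ A, ∀ b ∈ A, a * b = b * a) : IsCyclic A := by
  by_contra hAc
  obtain ⟨t, ht, B, hBn, hBA, hB⟩ := exists_EAb_of_not_cyclic hAn hA hAc
  have hB1 : ∃ b ∈ B, b ≠ 1 := by
    by_contra hcon
    push Not at hcon
    apply hB.nc
    have : Subsingleton B := ⟨fun a b => Subtype.ext (by rw [hcon a a.2, hcon b b.2])⟩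
    infer_instance
  obtain ⟨b, hb, hb1⟩ := hB1
  have h1 : orderOf b = t := orderOf_eq_of_pow ht hb1 (hB.exp b hb)
  have h2 : t ∣ Nat.card H := by rw [← h1]; exact orderOf_dvd_natCard b
  exact h.case1 (h.hH t ht h2) hBn hB

/-- there is no normal subgroup of order two -/
theorem ne_two (h : CfgB φ P) {q : ℕ} (hq : q ∈ P) {z : H} (hz1 : z ≠ 1)
    (hzq : z ^ q = 1) (hzn : (Subgroup.zpowers z).Normal) : q ≠ 2 := by
  rintro rfl
  obtain ⟨r, s, hr, hs, hrs, hrq, hsq, hP⟩ := h.others hq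
  have hzc : ∀ g : H, g * z = z * g := by
    intro g
    have h1 := hzn.conj_mem z (Subgroup.mem_zpowers z) g
    obtain ⟨i, hi⟩ := Subgroup.mem_zpowers_iff.1 h1
    have h2 : z ^ i = 1 ∨ z ^ i = z := by
      rcases Int.even_or_odd' i with ⟨k, rfl | rfl⟩
      · left
        rw [zpow_mul, zpow_ofNat, hzq, one_zpow]
      · right
        rw [zpow_add, zpow_mul, zpow_ofNat, hzq, one_zpow, one_mul, zpow_one]
    rcases h2 with h2 | h2
    · exfalso
      apply hz1
      rw [h2] at hi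
      have : z = g⁻¹ * (g * z * g⁻¹) * g := by group
      rw [this, ← hi]; group
    · rw [h2] at hi
      exact (mul_inv_eq_iff_eq_mul.1 hi.symm)
  obtain ⟨a, b, ha1, hb1, har, hbs, hab⟩ := h.joined r hr s hs hrs
  exact h.T3 r hr s hs 2 hq hrs hrq hsq a b z ha1 hb1 hz1 har hbs hzq hab (hzc a) (hzc b)

/-- a normal subgroup of prime order acts freely -/
theorem free_of_normal (h : CfgB φ P) {z : H} (hz1 : z ≠ 1)
    (hzn : (Subgroup.zpowers z).Normal) : ∀ v, φ z v = v → v = 1 := by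
  have hinv : ∀ g, ∀ u ∈ fixG φ z, φ g u ∈ fixG φ z := by
    intro g u hu
    rw [mem_fixG] at hu ⊢
    have h1 : g⁻¹ * z * g ∈ Subgroup.zpowers z := by
      have := hzn.conj_mem z (Subgroup.mem_zpowers z) g⁻¹
      rwa [inv_inv] at this
    have h2 : z * g = g * (g⁻¹ * z * g) := by group
    rw [← MulAut.mul_apply, ← map_mul, h2, map_mul, MulAut.mul_apply, fix_zpow hu h1]
  rcases h.irr _ hinv with h1 | h1
  · intro v hv
    have : v ∈ fixG φ z := hv
    rwa [h1, Subgroup.mem_bot] at this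
  · exfalso
    apply hz1
    apply h.faithful
    intro v
    have : v ∈ fixG φ z := by rw [h1]; trivial
    exact this

/-- the property of `t`-subgroups of the centralizer of `z` -/
def PF (φ : H →* MulAut V) (z : H) (t u : ℕ) : Prop :=
  ∀ N : Subgroup H, (∀ x ∈ N, x * z = z * x) → IsPGroup t N → ∀ b : H, b * z = z * b → b ≠ 1 →
    b ^ u = 1 → (∀ n ∈ N, b * n * b⁻¹ ∈ N) → (∀ n ∈ N, b * n = n * b → n = 1) →
    (∃ v, v ≠ 1 ∧ φ b v = v) → ∀ A : Subgroup H, A ≤ N → ¬ EAb t A

/-- the case of a self-centralizing cyclic normal subgroup -/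
theorem PF_alpha (z : H) (t u : ℕ) {F : Subgroup H}
    (hFn : F.Normal) (hFc : IsCyclic F) (hself : ∀ g : H, (∀ f ∈ F, g * f = f * g) → g ∈ F) :
    PF φ z t u := by
  intro N _ _ b _ _ _ hbN hfree _ A hAN hA
  -- every element of `N` is of the form `k⁻¹ b k b⁻¹`
  let f : N → N := fun k => ⟨(k : H)⁻¹ * (b * k * b⁻¹), N.mul_mem (N.inv_mem k.2) (hbN k k.2)⟩
  have hinj : Function.Injective f := by
    intro k m hkm
    have h1 : (k : H)⁻¹ * (b * k * b⁻¹) = (m : H)⁻¹ * (b * m * b⁻¹) := congrArg Subtype.val hkm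
    have h2 : (m : H) * (k : H)⁻¹ = 1 := by
      apply hfree _ (N.mul_mem m.2 (N.inv_mem k.2))
      have h3 : (m : H) * (k : H)⁻¹ = b * (m * (k : H)⁻¹) * b⁻¹ := by
        calc (m : H) * (k : H)⁻¹ = m * ((k : H)⁻¹ * (b * k * b⁻¹)) * (b * k * b⁻¹)⁻¹ := by group
          _ = m * ((m : H)⁻¹ * (b * m * b⁻¹)) * (b * k * b⁻¹)⁻¹ := by rw [h1]
          _ = b * (m * (k : H)⁻¹) * b⁻¹ := by group
      calc b * (m * (k : H)⁻¹) = (b * (m * (k : H)⁻¹) * b⁻¹) * b := by group
        _ = (m * (k : H)⁻¹) * b := by rw [← h3]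
    exact Subtype.ext (mul_inv_eq_one.1 h2).symm
  have hsurj := Finite.injective_iff_surjective.1 hinj
  have hNF : N ≤ F := by
    intro x hx
    obtain ⟨k, hk⟩ := hsurj ⟨x, hx⟩
    have hk' : (k : H)⁻¹ * (b * k * b⁻¹) = x := congrArg Subtype.val hk
    apply hself
    intro y hy
    let χ : H →* MulAut F := MulAut.conjNormal (H := F)
    have h1 : χ x = 1 := by
      rw [← hk', map_mul, map_mul, map_mul, map_inv, map_inv,
        mulAut_comm_of_isCyclic hFc (χ b) (χ k), mul_inv_cancel_right, inv_mul_cancel]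
    have h2 : x * y * x⁻¹ = y := by
      have h3 : ((χ x ⟨y, hy⟩ : F) : H) = x * y * x⁻¹ := rfl
      rw [← h3, h1]; rfl
    exact mul_inv_eq_iff_eq_mul.1 h2
  apply hA.nc
  exact isCyclic_of_injective (Subgroup.inclusion (hAN.trans hNF)) (Subgroup.inclusion_injective _)

/-- the extraspecial case -/
theorem PF_beta (h : CfgB φ P) {q t u : ℕ} (hq : q ∈ P) (ht : t ∈ P) (hu : u ∈ P)
    (htq : t ≠ q) (huq : u ≠ q) {E : Subgroup H} (hEn : E.Normal)
    {z : H} (hzE : z ∈ E) (hz1 : z ≠ 1) (hzq : z ^ q = 1) (hzn : (Subgroup.zpowers z).Normal)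
    (hEz : ∀ e ∈ E, e * z = z * e) (hEc : ∀ a ∈ E, ∀ b ∈ E, ⁅a, b⁆ ∈ Subgroup.zpowers z)
    (hEnc : ∃ a ∈ E, ∃ b ∈ E, a * b ≠ b * a) (hEq : ∀ a ∈ E, a ^ q = 1) : PF φ z t u := by
  intro N hNz hNt b hbz hb1 hbu hbN hfree hfix A hAN hA
  have hq' := h.hP q hq
  have ht' := h.hP t ht
  have hu' := h.hP u hu
  have := Fact.mk hu'
  have := Fact.mk hq'
  have := Fact.mk ht'
  -- an element of `E` outside `⟨z⟩`
  obtain ⟨e0, he0, he0z⟩ : ∃ e ∈ E, e ∉ Subgroup.zpowers z := by
    obtain ⟨a, ha, b, hb, hab⟩ := hEnc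
    refine ⟨a, ha, fun hc => hab ?_⟩
    obtain ⟨i, rfl⟩ := Subgroup.mem_zpowers_iff.1 hc
    exact ((show Commute b z from hEz b hb).zpow_right i).symm.eq
  -- a fixed point argument
  have hkey : ∀ (w : ℕ), w ∈ P → w ≠ q → ∀ x : H, x ≠ 1 → x ^ w = 1 → x * z = z * x →
      ∀ e ∈ E, e ∉ Subgroup.zpowers z → x * e = e * x → ∀ v, φ x v = v → v = 1 := by
    intro w hw hwq x hx1 hxw hxz e he hez hxe v hv
    by_contra hv1
    have hD := EAb_of_pair hq' hz1 hzq (hEq e he) hez (hEz e he)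
    have hDx : ∀ d ∈ (Subgroup.zpowers e ⊔ Subgroup.zpowers z : Subgroup H), x * d = d * x := by
      have hle : (Subgroup.zpowers e ⊔ Subgroup.zpowers z : Subgroup H) ≤
          Subgroup.centralizer {x} := by
        apply sup_le
        · rw [Subgroup.zpowers_le, Subgroup.mem_centralizer_singleton_iff]; exact hxe.symm
        · rw [Subgroup.zpowers_le, Subgroup.mem_centralizer_singleton_iff]; exact hxz.symm
      intro d hd
      exact (Subgroup.mem_centralizer_singleton_iff.1 (hle hd)).symm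
    obtain ⟨d, hd, hd1, y, hy, hy1, hdy⟩ := exists_fixed_of_not_cyclic φ (fixG φ x)
      (fun a _ b _ => mul_comm a b) (by
        intro hbot
        apply hv1
        have : v ∈ fixG φ x := hv
        rwa [hbot, Subgroup.mem_bot] at this) _ hD.comm hD.nc
      (fun a ha => fixG_invariant (hDx a ha))
    exact h.TV w hw q hq hwq x d hx1 hd1 hxw (hD.exp d hd) (hDx d hd) y hy1 hy hdy
  -- the action on the quotient
  let π : H →* H ⧸ Subgroup.zpowers z := QuotientGroup.mk' _
  let χ : H →* MulAut (H ⧸ Subgroup.zpowers z) := MulAut.conj.comp π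
  have hcE : (Nat.card N).Coprime (Nat.card E) := by
    rw [Nat.coprime_iff_gcd_eq_one]
    by_contra hc
    obtain ⟨l, hl, hd⟩ := Nat.exists_prime_and_dvd hc
    have h1 : l = q := (Nat.prime_dvd_prime_iff_eq hl hq').1
      (dvd_of_exp hEq hl (hd.trans (Nat.gcd_dvd_right _ _)))
    obtain ⟨n, hn⟩ := IsPGroup.iff_card.1 hNt
    have h2 : l ∣ t ^ n := by rw [← hn]; exact hd.trans (Nat.gcd_dvd_left _ _)
    have h3 : l = t := (Nat.prime_dvd_prime_iff_eq hl ht').1 (hl.dvd_of_dvd_pow h2)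
    exact htq (h3.symm.trans h1)
  rcases frob_prime χ (E.map π) (by
      rintro _ ⟨a, ha, rfl⟩ _ ⟨b, hb, rfl⟩
      have h1 : π ⁅a, b⁆ = 1 := (QuotientGroup.eq_one_iff _).2 (hEc a ha b hb)
      rw [map_commutatorElement] at h1
      exact commutatorElement_eq_one_iff_mul_comm.1 h1) N b (by
      rintro k hk _ ⟨e, he, rfl⟩
      exact ⟨k * e * k⁻¹, hEn.conj_mem e he k, by
        change π (k * e * k⁻¹) = π k * π e * (π k)⁻¹
        rw [map_mul, map_mul, map_inv]⟩) (by
      rintro _ ⟨e, he, rfl⟩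
      exact ⟨b * e * b⁻¹, hEn.conj_mem e he b, by
        change π (b * e * b⁻¹) = π b * π e * (π b)⁻¹
        rw [map_mul, map_mul, map_inv]⟩) hbN hu' hbu hfree
    (hcE.coprime_dvd_right (Subgroup.card_map_dvd E π)) with h1 | ⟨_, ⟨e, he, rfl⟩, he1, hbe⟩
  · -- `N` centralizes `E`
    have hNE : ∀ k ∈ N, ∀ e ∈ E, k * e = e * k := by
      intro k hk e he
      have h2 := h1 k hk (π e) ⟨e, he, rfl⟩
      have h3 : π (k * e * k⁻¹ * e⁻¹) = 1 := by
        have h4 : π k * π e * (π k)⁻¹ = π e := h2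
        rw [map_mul, map_mul, map_mul, map_inv, map_inv, h4, mul_inv_cancel]
      have h5 : k * e * k⁻¹ * e⁻¹ ∈ Subgroup.zpowers z := (QuotientGroup.eq_one_iff _).1 h3
      set ζ := k * e * k⁻¹ * e⁻¹ with hζ
      obtain ⟨i, hi⟩ := Subgroup.mem_zpowers_iff.1 h5
      have hkζ : k * ζ = ζ * k := by
        rw [← hi]; exact ((show Commute k z from hNz k hk).zpow_right i).eq
      obtain ⟨n, hn⟩ := hNt ⟨k, hk⟩
      have hn' : k ^ t ^ n = 1 := congrArg Subtype.val hn
      have h6 : ζ ^ t ^ n = 1 := pow_eq_one_of_conj (y := k) (a := e) hn' (by rw [hζ]; group) hkζ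
      have h7 : ζ ^ q = 1 := by
        rw [← hi, ← zpow_natCast, ← zpow_mul, mul_comm, zpow_mul, zpow_natCast, hzq, one_zpow]
      have h8 : (t ^ n).Coprime q := Nat.Coprime.pow_left n ((Nat.coprime_primes ht' hq').2 htq)
      have h9 : ζ = 1 := by
        rw [← orderOf_eq_one_iff]
        apply Nat.dvd_one.1
        rw [← h8]
        exact Nat.dvd_gcd (orderOf_dvd_of_pow_eq_one h6) (orderOf_dvd_of_pow_eq_one h7)
      rw [hζ, mul_inv_eq_one, mul_inv_eq_iff_eq_mul] at h9
      exact h9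
    obtain ⟨a, ha, ha1, v, hv1, hav⟩ := fix_top φ h.ntV hA
    exact hv1 (hkey t ht htq a ha1 (hA.exp a ha) (hNz a (hAN ha)) e0 he0 he0z
      (hNE a (hAN ha) e0 he0) v hav)
  · -- `b` centralizes an element of `E`
    have h2 : π b * π e * (π b)⁻¹ = π e := hbe
    have hez : e ∉ Subgroup.zpowers z := fun hc => he1 ((QuotientGroup.eq_one_iff _).2 hc)
    obtain ⟨d, hd, hbd⟩ := SignalizersComponents.CoprimeBasic.exists_fixed_in_coset_of_pow
      (p := u) b 1 (by rw [pow_one, hbu]) (Subgroup.zpowers z) (by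
        rw [Nat.card_zpowers, orderOf_eq_of_pow hq' hz1 hzq]
        intro hd
        exact huq ((Nat.prime_dvd_prime_iff_eq hu' hq').1 hd))
      (fun d hd => hzn.conj_mem d hd b) e (by
        have h3 : π (e⁻¹ * (b * e * b⁻¹)) = 1 := by
          rw [map_mul, map_mul, map_mul, map_inv, map_inv, h2, inv_mul_cancel]
        exact (QuotientGroup.eq_one_iff _).1 h3)
    obtain ⟨v, hv1, hv⟩ := hfix
    have hdE : d ∈ E := by
      have : Subgroup.zpowers z ≤ E := by rw [Subgroup.zpowers_le]; exact hzE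
      exact this hd
    refine hv1 (hkey u hu huq b hb1 hbu hbz (e * d) (E.mul_mem he hdE) ?_ hbd v hv)
    intro hc
    apply hez
    have : e = e * d * d⁻¹ := by group
    rw [this]
    exact Subgroup.mul_mem _ hc (Subgroup.inv_mem _ hd)

/-- the second case -/
theorem case2 (h : CfgB φ P) {q : ℕ} (hq : q ∈ P) {z : H} (hz1 : z ≠ 1)
    (hzq : z ^ q = 1) (hzn : (Subgroup.zpowers z).Normal)
    (hPF : ∀ t ∈ P, ∀ u ∈ P, t ≠ q → u ≠ q → t ≠ u → PF φ z t u) : False := by
  obtain ⟨r, s, hr, hs, hrs, hrq, hsq, hP⟩ := h.others hq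
  have hr' := h.hP r hr
  have hs' := h.hP s hs
  have hq' := h.hP q hq
  have := h.solv
  have hzfree := h.free_of_normal hz1 hzn
  obtain ⟨L, hL, hLc⟩ := exists_hall (G := H) (fun t => t = r ∨ t = s)
  have hCn : (Subgroup.centralizer ((Subgroup.zpowers z : Subgroup H) : Set H)).Normal := by
    infer_instance
  let L1 : Subgroup L :=
    (Subgroup.centralizer ((Subgroup.zpowers z : Subgroup H) : Set H)).comap L.subtype
  have hL1 : ∀ x : L, x ∈ L1 ↔ (x : H) * z = z * x := by
    intro x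
    constructor
    · intro hx
      exact (Subgroup.mem_centralizer_iff.1 hx z (Subgroup.mem_zpowers z)).symm
    · intro hx
      refine Subgroup.mem_centralizer_iff.2 ?_
      intro y hy
      obtain ⟨i, rfl⟩ := Subgroup.mem_zpowers_iff.1 hy
      exact ((show Commute (x : H) z from hx).zpow_right i).symm.eq
  have hPi : ∀ t ∈ P, ∀ u ∈ P, t ≠ q → u ≠ q → t ≠ u → PropI (φ.comp L.subtype) L1 t u := by
    intro t ht u hu htq huq htu a ha b hb ha1 hat hbu hab v hv
    by_contra hv1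
    have ha1' : (a : H) ≠ 1 := fun h => ha1 (Subtype.ext h)
    have hb1' : (b : H) ≠ 1 := by
      intro h1
      apply hb
      rw [hL1, h1]; simp
    have hbz : ∀ k ∈ Subgroup.zpowers z, (b : H) * k = k * b → k = 1 := by
      intro k hk hbk
      by_contra hk1
      exact hb ((hL1 b).2 (commute_of_zpowers hq' hzq hk hk1 hbk))
    have haz := (hL1 a).1 ha
    rcases frob_prime φ (fixG φ (a : H)) (fun a _ b _ => mul_comm a b) (Subgroup.zpowers z)
      (b : H) (by
        intro k hk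
        obtain ⟨i, rfl⟩ := Subgroup.mem_zpowers_iff.1 hk
        exact fixG_invariant ((show Commute (a : H) z from haz).zpow_right i).eq)
      (fixG_invariant (congrArg Subtype.val hab)) (fun k hk => hzn.conj_mem k hk b)
      (h.hP u hu) (congrArg Subtype.val hbu) hbz (by
        have h1 : (Nat.card (Subgroup.zpowers z)).Coprime (Nat.card V) :=
          h.cV.coprime_dvd_left (Subgroup.card_subgroup_dvd_card _)
        exact h1.coprime_dvd_right (Subgroup.card_subgroup_dvd_card _)) with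
      h1 | ⟨w, hw, hw1, hbw⟩
    · exact hv1 (hzfree v (h1 z (Subgroup.mem_zpowers z) v hv))
    · exact h.TV t ht u hu htu a b ha1' hb1' (congrArg Subtype.val hat)
        (congrArg Subtype.val hbu) (congrArg Subtype.val hab) w hw1 hw hbw
  have hPc : ∀ t : ℕ, ∀ A : Subgroup L, EAb t A → ∃ a ∈ A, a ≠ 1 ∧ a ∈ L1 := by
    intro t A hA
    obtain ⟨_, ⟨a, ha, rfl⟩, ha1, haz⟩ := exists_commute_of_EAb hq' hz1 hzq hzn
      (hA.map L.subtype L.subtype_injective)
    exact ⟨a, ha, fun h => ha1 (congrArg Subtype.val h), (hL1 a).2 haz⟩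
  have hPf : ∀ t ∈ P, ∀ u ∈ P, t ≠ q → u ≠ q → t ≠ u → PropF (φ.comp L.subtype) L1 t u := by
    intro t ht u hu htq huq htu N hN hNt b hb hb1 hbu hbN hfree hfix A hAN hA
    refine hPF t ht u hu htq huq htu (N.map L.subtype) ?_ (hNt.map _) (b : H) ((hL1 b).1 hb)
      (fun h => hb1 (Subtype.ext h)) (congrArg Subtype.val hbu) ?_ ?_ hfix
      (A.map L.subtype) (Subgroup.map_mono hAN) (hA.map _ L.subtype_injective)
    · rintro _ ⟨x, hx, rfl⟩
      exact (hL1 x).1 (hN hx)
    · rintro _ ⟨x, hx, rfl⟩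
      exact ⟨b * x * b⁻¹, hbN x hx, rfl⟩
    · rintro _ ⟨x, hx, rfl⟩ hbx
      have h1 : b * x = x * b := Subtype.ext hbx
      rw [hfree x hx h1, map_one]
  have hB : CfgB2 (φ.comp L.subtype) L1 r s := by
    refine
      { hr := hr'
        hs := hs'
        hrs := hrs
        solv := inferInstance
        hL := hL
        cV := h.cV.coprime_dvd_left (Subgroup.card_subgroup_dvd_card L)
        thr := EAb_hall hLc hr' (Or.inl rfl) (h.thick r hr)
        ths := EAb_hall hLc hs' (Or.inr rfl) (h.thick s hs)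
        ntV := h.ntV
        nL1 := hCn.comap _
        Pa := ?_
        Pi := hPi r hr s hs hrq hsq hrs
        Pi' := hPi s hs r hr hsq hrq hrs.symm
        Pc := hPc r
        Pc' := hPc s
        Pf := hPf r hr s hs hrq hsq hrs
        Pf' := hPf s hs r hr hsq hrq hrs.symm }
    intro a ha b hb ha1 hb1 har hbs hab
    exact h.T3 r hr s hs q hq hrs hrq hsq a b z (fun h => ha1 (Subtype.ext h))
      (fun h => hb1 (Subtype.ext h)) hz1 (congrArg Subtype.val har) (congrArg Subtype.val hbs)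
      hzq (congrArg Subtype.val hab) ((hL1 a).1 ha) ((hL1 b).1 hb)
  exact hB.false

theorem false (h : CfgB φ P) : False := by
  have := h.solv
  rcases cyclic_dichotomy (H := H) (fun A hAn hA => h.cyclic_of_abelian A hAn hA) with
    ⟨F, hFn, hFab, hFc, hself⟩ | ⟨q, hq', E, hEn, z, hzE, hz1, hzq, hzn, hEz, hEc, hEnc, hEq⟩
  · -- `F` is not trivial
    obtain ⟨t, ht⟩ : P.Nonempty := by
      rw [← Finset.card_pos, h.hP3]; norm_num
    have hFb : ∃ f ∈ F, f ≠ 1 := by
      by_contra hcon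
      push Not at hcon
      obtain ⟨A, hA⟩ := h.thick t ht
      apply hA.nc
      have hA1 : ∀ a : H, a = 1 := fun a => hcon a (hself a (fun f hf => by
        rw [hcon f hf, mul_one, one_mul]))
      have : Subsingleton A := ⟨fun a b => Subtype.ext (by rw [hA1 a, hA1 b])⟩
      infer_instance
    obtain ⟨f, hf, hf1⟩ := hFb
    have hord : orderOf f ≠ 1 := fun h => hf1 (orderOf_eq_one_iff.1 h)
    obtain ⟨q, hq', m, hm⟩ := Nat.exists_prime_and_dvd hord
    have hpos := orderOf_pos f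
    have hm0 : m ≠ 0 := by rintro rfl; omega
    have hz1 : f ^ m ≠ 1 := by
      intro hc
      have h2 := Nat.le_of_dvd (Nat.pos_of_ne_zero hm0) (orderOf_dvd_of_pow_eq_one hc)
      rw [hm] at h2
      have := hq'.two_le
      have := Nat.pos_of_ne_zero hm0
      nlinarith
    have hzq : (f ^ m) ^ q = 1 := by
      rw [← pow_mul, mul_comm m q, ← hm, pow_orderOf_eq_one]
    have hq : q ∈ P := h.hH q hq' ((Dvd.intro m hm.symm).trans (orderOf_dvd_natCard f))
    have hzF : f ^ m ∈ F := F.pow_mem hf m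
    refine h.case2 hq hz1 hzq ?_ (fun t _ u _ _ _ _ => PF_alpha _ t u hFn hFc hself)
    constructor
    intro w hw g
    obtain ⟨i, rfl⟩ := Subgroup.mem_zpowers_iff.1 hw
    rw [← conj_zpow]
    apply Subgroup.zpow_mem
    apply mem_of_isCyclic hFc hq' hzF (hFn.conj_mem _ hzF g) hz1 hzq
    rw [conj_pow, hzq, mul_one, mul_inv_cancel]
  · have hq : q ∈ P := by
      apply h.hH q hq'
      rw [← orderOf_eq_of_pow hq' hz1 hzq]
      exact orderOf_dvd_natCard z
    have hq2 := h.ne_two hq hz1 hzq hzn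
    exact h.case2 hq hz1 hzq hzn (fun t ht u hu htq huq _ =>
      h.PF_beta hq ht hu htq huq hEn hzE hz1 hzq hzn hEz hEc hEnc (hEq hq2))

end CfgB

end Cfsg.Agent.H456
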