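import Cfsg.Agent.H456.FourF2

set_option autoImplicit false
set_option linter.unusedSectionVars false

/-!
S3814: a solvable group whose order is divisible by four primes.
-/

namespace Cfsg.Agent.H456

open Cfsg.Agent
open scoped commutatorElement Pointwise

theorem coprime_of_primes {m n : ℕ} (h : ∀ t : ℕ, t.Prime → t ∣ m → t ∣ n → False) :
    m.Coprime n := by
  rw [Nat.coprime_iff_gcd_eq_one]
  by_contra hc
  obtain ⟨t, ht, hd⟩ := Nat.exists_prime_and_dvd hc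
  exact h t ht (hd.trans (Nat.gcd_dvd_left _ _)) (hd.trans (Nat.gcd_dvd_right _ _))

/-- a power of prime order, general version -/
theorem exists_pow_prime' {L : Type*} [Group L] [Finite L] {x : L} (hx1 : x ≠ 1) :
    ∃ t : ℕ, t.Prime ∧ t ∣ Nat.card L ∧ ∃ m : ℕ, x ^ m ≠ 1 ∧ (x ^ m) ^ t = 1 := by
  have hord : orderOf x ≠ 1 := fun h => hx1 (orderOf_eq_one_iff.1 h)
  obtain ⟨t, ht, m, hm⟩ := Nat.exists_prime_and_dvd hord
  have hpos := orderOf_pos x
  have hm0 : m ≠ 0 := by rintro rfl; omega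
  have h1 : x ^ m ≠ 1 := by
    intro hc
    have h2 := Nat.le_of_dvd (Nat.pos_of_ne_zero hm0) (orderOf_dvd_of_pow_eq_one hc)
    rw [hm] at h2
    have := ht.two_le
    have := Nat.pos_of_ne_zero hm0
    nlinarith
  have h2 : (x ^ m) ^ t = 1 := by
    rw [← pow_mul, mul_comm m t, ← hm, pow_orderOf_eq_one]
  exact ⟨t, ht, (Dvd.intro m hm.symm).trans (orderOf_dvd_natCard x), m, h1, h2⟩

/-- a normal subgroup of a solvable group contains a nontrivial abelian normal subgroup of prime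
exponent -/
theorem exists_elem_abelian {G : Type*} [Group G] [Finite G] [Group.IsSolvable G]
    {N : Subgroup G} (hN : N.Normal) (hNb : N ≠ ⊥) :
    ∃ t : ℕ, t.Prime ∧ t ∣ Nat.card G ∧ ∃ M : Subgroup G, M.Normal ∧ M ≤ N ∧ M ≠ ⊥ ∧
      (∀ a ∈ M, ∀ b ∈ M, a * b = b * a) ∧ ∀ a ∈ M, a ^ t = 1 := by
  obtain ⟨M, hMn, hMle, hMbot, hMab⟩ := exists_abelian_normal_le hN hNb
  obtain ⟨⟨m, hm⟩, hm1'⟩ := Subgroup.ne_bot_iff_exists_ne_one.1 hMbot
  have hm1 : m ≠ 1 := fun h => hm1' (Subtype.ext h)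
  obtain ⟨t, ht, htd, n, hn1, hn⟩ := exists_pow_prime' hm1
  let M' : Subgroup G :=
    { carrier := {x | x ∈ M ∧ x ^ t = 1}
      one_mem' := ⟨M.one_mem, one_pow _⟩
      mul_mem' := by
        rintro a b ⟨ha, hat⟩ ⟨hb, hbt⟩
        refine ⟨M.mul_mem ha hb, ?_⟩
        rw [(show Commute a b from hMab a ha b hb).mul_pow, hat, hbt, one_mul]
      inv_mem' := by
        rintro a ⟨ha, hat⟩
        exact ⟨M.inv_mem ha, by rw [inv_pow, hat, inv_one]⟩ }
  refine ⟨t, ht, htd, M', ⟨?_⟩, fun x hx => hMle hx.1, ?_,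
    fun a ha b hb => hMab a ha.1 b hb.1, fun a ha => ha.2⟩
  · rintro x ⟨hx, hxt⟩ g
    exact ⟨hMn.conj_mem x hx g, by rw [conj_pow, hxt, mul_one, mul_inv_cancel]⟩
  · intro hb
    apply hn1
    have : m ^ n ∈ M' := ⟨M.pow_mem hm n, hn⟩
    rwa [hb, Subgroup.mem_bot] at this

/-- a prime dividing the order of a group divides the order of a Hall subgroup -/
theorem dvd_card_hall {G : Type*} [Group G] [Finite G] {P : ℕ → Prop} {L : Subgroup G}
    (hL : ∀ K : Subgroup G, (∀ t : ℕ, t.Prime → t ∣ Nat.card K → P t) →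
        ∃ g : G, ∀ k ∈ K, g * k * g⁻¹ ∈ L) {t : ℕ} (ht : t.Prime) (hPt : P t)
    (hd : t ∣ Nat.card G) : ∃ x : L, x ≠ 1 ∧ x ^ t = 1 := by
  have := Fact.mk ht
  obtain ⟨x, hx⟩ := exists_prime_orderOf_dvd_card' t hd
  have hxt : x ^ t = 1 := by rw [← hx, pow_orderOf_eq_one]
  have hx1 : x ≠ 1 := by
    rintro rfl
    rw [orderOf_one] at hx
    exact ht.one_lt.ne hx
  obtain ⟨g, hg⟩ := hL (Subgroup.zpowers x) (fun u hu hd => by
    rw [Nat.card_zpowers, hx] at hd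
    rw [(Nat.prime_dvd_prime_iff_eq hu ht).1 hd]; exact hPt)
  refine ⟨⟨_, hg x (Subgroup.mem_zpowers x)⟩, ?_, ?_⟩
  · intro h
    apply hx1
    have h1 : g * x * g⁻¹ = 1 := congrArg Subtype.val h
    rw [mul_inv_eq_one] at h1
    exact mul_eq_left.1 h1
  · apply Subtype.ext
    change (g * x * g⁻¹) ^ t = 1
    rw [conj_pow, hxt]; group

/-- A solvable group whose order is divisible by three primes has commuting elements of distinct
prime orders. -/
theorem lucido {G : Type*} [Group G] [Finite G] [Group.IsSolvable G] {P : Finset ℕ}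
    (hP : ∀ t ∈ P, t.Prime) (hP3 : P.card = 3) (hG : ∀ t : ℕ, t.Prime → t ∣ Nat.card G → t ∈ P)
    (hPG : ∀ t ∈ P, t ∣ Nat.card G) :
    ∃ t ∈ P, ∃ u ∈ P, t ≠ u ∧ ∃ x y : G, x ≠ 1 ∧ y ≠ 1 ∧ x ^ t = 1 ∧ y ^ u = 1 ∧
      x * y = y * x := by
  by_contra hcon
  push Not at hcon
  have hno : ∀ t ∈ P, ∀ u ∈ P, t ≠ u → ∀ x y : G, x ≠ 1 → y ≠ 1 → x ^ t = 1 → y ^ u = 1 →
      x * y = y * x → False := fun t ht u hu htu x y hx hy hxt hyu h =>
    hcon t ht u hu htu x y hx hy hxt hyu h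
  have htop : (⊤ : Subgroup G) ≠ ⊥ := by
    intro h
    obtain ⟨t, ht⟩ : P.Nonempty := by rw [← Finset.card_pos, hP3]; norm_num
    have h1 := hPG t ht
    rw [← Subgroup.card_top, h, Subgroup.card_bot] at h1
    exact (hP t ht).one_lt.ne' (Nat.dvd_one.1 h1)
  obtain ⟨a, ha', had, M, hMn, -, hMb, hMab, hMa⟩ :=
    exists_elem_abelian (N := (⊤ : Subgroup G)) inferInstance htop
  have ha := hG a ha' had
  obtain ⟨b, c, hbc, hPe⟩ := Finset.card_eq_two.1
    (show (P.erase a).card = 2 by rw [Finset.card_erase_of_mem ha, hP3])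
  have hb0 : b ∈ P.erase a := by rw [hPe]; simp
  have hc0 : c ∈ P.erase a := by rw [hPe]; simp
  have hb := (Finset.mem_erase.1 hb0).2
  have hc := (Finset.mem_erase.1 hc0).2
  have hba := (Finset.mem_erase.1 hb0).1
  have hca := (Finset.mem_erase.1 hc0).1
  have hb' := hP b hb
  have hc' := hP c hc
  obtain ⟨L, hL, hLc⟩ := exists_hall (G := G) (fun t => t = b ∨ t = c)
  -- the action on `M` is free
  have hfree : ∀ x : G, ∀ t : ℕ, t ∈ P → t ≠ a → x ≠ 1 → x ^ t = 1 → ∀ m ∈ M, m ≠ 1 →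
      x * m = m * x → False := fun x t ht hta hx1 hxt m hm hm1 h =>
    hno t ht a ha hta x m hx1 hm1 hxt (hMa m hm) h
  obtain ⟨x0, hx01, -⟩ := dvd_card_hall hLc hb' (Or.inl rfl) (hPG b hb)
  have hLb : (⊤ : Subgroup L) ≠ ⊥ := by
    intro h
    apply hx01
    have : x0 ∈ (⊤ : Subgroup L) := trivial
    rwa [h, Subgroup.mem_bot] at this
  obtain ⟨l, hl', hld, A, hAn, -, hAb, hAab, hAl⟩ :=
    exists_elem_abelian (N := (⊤ : Subgroup L)) inferInstance hLb
  have hlbc := hL l hl' hld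
  obtain ⟨l', hl'P, hll', hlP, hla, hl'a, hl'bc⟩ : ∃ l' ∈ P, l ≠ l' ∧ l ∈ P ∧ l ≠ a ∧ l' ≠ a ∧
      (l' = b ∨ l' = c) := by
    rcases hlbc with rfl | rfl
    · exact ⟨c, hc, hbc, hb, hba, hca, Or.inr rfl⟩
    · exact ⟨b, hb, hbc.symm, hc, hca, hba, Or.inl rfl⟩
  -- `A` is cyclic
  let A' : Subgroup G := A.map L.subtype
  have hA'c : IsCyclic A' := by
    by_contra hc
    obtain ⟨_, ⟨x, hx, rfl⟩, hx1, m, hm, hm1, hxm⟩ := exists_fixed_of_not_cyclic
      (MulAut.conj : G →* MulAut G) M hMab hMb A' (by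
        rintro _ ⟨x, hx, rfl⟩ _ ⟨y, hy, rfl⟩
        exact congrArg Subtype.val (hAab x hx y hy)) hc (fun b _ u hu => hMn.conj_mem u hu b)
    rw [MulAut.conj_apply] at hxm
    exact hfree x l hlP hla hx1 (congrArg Subtype.val (hAl x hx)) m hm hm1
      (mul_inv_eq_iff_eq_mul.1 hxm)
  obtain ⟨⟨z, hz⟩, hz1'⟩ := Subgroup.ne_bot_iff_exists_ne_one.1 hAb
  have hz1 : z ≠ 1 := fun h => hz1' (Subtype.ext h)
  have hz1G : (z : G) ≠ 1 := fun h => hz1 (Subtype.ext h)
  have hzl : (z : G) ^ l = 1 := congrArg Subtype.val (hAl z hz)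
  obtain ⟨y, hy1, hyl⟩ := dvd_card_hall hLc (hP l' hl'P) hl'bc (hPG l' hl'P)
  have hy1G : (y : G) ≠ 1 := fun h => hy1 (Subtype.ext h)
  have hyl' : (y : G) ^ l' = 1 := congrArg Subtype.val hyl
  rcases frob_prime (MulAut.conj : G →* MulAut G) M hMab (Subgroup.zpowers (z : G)) (y : G)
    (fun b _ u hu => hMn.conj_mem u hu b) (fun u hu => hMn.conj_mem u hu _) (by
      intro k hk
      obtain ⟨i, rfl⟩ := Subgroup.mem_zpowers_iff.1 hk
      rw [← conj_zpow]
      apply Subgroup.zpow_mem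
      refine mem_of_isCyclic hA'c hl' ⟨z, hz, rfl⟩ ⟨y * z * y⁻¹, hAn.conj_mem z hz y, rfl⟩
        hz1G hzl ?_
      change ((y : G) * z * (y : G)⁻¹) ^ l = 1
      rw [conj_pow, hzl, mul_one, mul_inv_cancel]) (hP l' hl'P) hyl' (by
      intro k hk hyk
      by_contra hk1
      have h1 := commute_of_zpowers hl' hzl hk hk1 hyk
      exact hno l' hl'P l hlP hll'.symm y z hy1G hz1G hyl' hzl h1) (by
      apply coprime_of_primes
      intro t ht h1 h2
      rw [Nat.card_zpowers, orderOf_eq_of_pow hl' hz1G hzl] at h1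
      have h3 := (Nat.prime_dvd_prime_iff_eq ht hl').1 h1
      have h4 := (Nat.prime_dvd_prime_iff_eq ht ha').1 (dvd_of_exp hMa ht h2)
      exact hla (h3.symm.trans h4)) with h1 | ⟨m, hm, hm1, hym⟩
  · obtain ⟨⟨m, hm⟩, hm1'⟩ := Subgroup.ne_bot_iff_exists_ne_one.1 hMb
    have hm1 : m ≠ 1 := fun h => hm1' (Subtype.ext h)
    have h2 := h1 z (Subgroup.mem_zpowers _) m hm
    rw [MulAut.conj_apply] at h2
    exact hfree z l hlP hla hz1G hzl m hm hm1 (mul_inv_eq_iff_eq_mul.1 h2)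
  · rw [MulAut.conj_apply] at hym
    exact hfree y l' hl'P hl'a hy1G hyl' m hm hm1 (mul_inv_eq_iff_eq_mul.1 hym)

/-- a solvable group whose order is divisible by four primes -/
structure CfgG (G : Type*) [Group G] (P : Finset ℕ) : Prop where
  hP : ∀ t ∈ P, t.Prime
  hP4 : P.card = 4
  solv : Group.IsSolvable G
  hG : ∀ t : ℕ, t.Prime → t ∣ Nat.card G → t ∈ P
  T3 : ∀ t ∈ P, ∀ u ∈ P, ∀ w ∈ P, t ≠ u → t ≠ w → u ≠ w → ∀ a b c : G, a ≠ 1 → b ≠ 1 → c ≠ 1 →
    a ^ t = 1 → b ^ u = 1 → c ^ w = 1 → a * b = b * a → a * c = c * a → b * c = c * b → False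
  joined : ∀ t ∈ P, ∀ u ∈ P, t ≠ u → ∃ a b : G, a ≠ 1 ∧ b ≠ 1 ∧ a ^ t = 1 ∧ b ^ u = 1 ∧
    a * b = b * a

namespace CfgG

variable {G : Type*} [Group G] [Finite G] {P : Finset ℕ}

theorem thick (h : CfgG G P) {t : ℕ} (ht : t ∈ P) : ∃ A : Subgroup G, EAb t A := by
  by_contra hcon
  push Not at hcon
  have := h.solv
  have ht' := h.hP t ht
  have := Fact.mk ht'
  -- a Sylow subgroup
  obtain ⟨T⟩ : Nonempty (Sylow t G) := inferInstance
  -- elements of order `t`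
  have hP3 : (P.erase t).card = 3 := by rw [Finset.card_erase_of_mem ht, h.hP4]
  have hel : ∀ y : G, y ^ t = 1 → ∃ g : G, g * y * g⁻¹ ∈ (T : Subgroup G) := by
    intro y hyt
    have hyp : IsPGroup t (Subgroup.zpowers y) := by
      rintro ⟨_, ⟨i, rfl⟩⟩
      refine ⟨1, Subtype.ext ?_⟩
      change (y ^ i) ^ t ^ 1 = 1
      rw [pow_one, ← zpow_natCast, ← zpow_mul, mul_comm, zpow_mul, zpow_natCast, hyt, one_zpow]
    obtain ⟨T', hT'⟩ := hyp.exists_le_sylow
    obtain ⟨g, hg⟩ := MulAction.exists_smul_eq G T' T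
    refine ⟨g, ?_⟩
    have h1 : MulAut.conj g • (T' : Subgroup G) = T := by
      rw [← hg]; rfl
    rw [← h1]
    have h2 := Subgroup.smul_mem_pointwise_smul y (MulAut.conj g) (T' : Subgroup G)
      (hT' (Subgroup.mem_zpowers y))
    simpa using h2
  obtain ⟨u0, hu0⟩ : (P.erase t).Nonempty := by rw [← Finset.card_pos, hP3]; norm_num
  obtain ⟨x, -, hx1, -, hxt, -, -⟩ := h.joined t ht u0 (Finset.mem_erase.1 hu0).2
    (Finset.mem_erase.1 hu0).1.symm
  obtain ⟨g0, hg0⟩ := hel x hxt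
  have hTnt : Nontrivial T := by
    refine ⟨⟨⟨_, hg0⟩, 1, ?_⟩⟩
    intro h1
    apply hx1
    have h2 : g0 * x * g0⁻¹ = 1 := congrArg Subtype.val h1
    rw [mul_inv_eq_one] at h2
    exact mul_eq_left.1 h2
  have hZnt : Nontrivial (Subgroup.center T) := T.isPGroup'.center_nontrivial
  obtain ⟨⟨c, hcZ⟩, hc1⟩ := exists_ne (1 : Subgroup.center T)
  have hc1' : (c : G) ≠ 1 := fun h => hc1 (Subtype.ext (Subtype.ext h))
  obtain ⟨z, hz1, hzt, hzT, hzc⟩ : ∃ z : G, z ≠ 1 ∧ z ^ t = 1 ∧ z ∈ (T : Subgroup G) ∧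
      ∀ y ∈ (T : Subgroup G), y * z = z * y := by
    obtain ⟨k, hk⟩ := T.isPGroup' c
    have hk' : (c : G) ^ t ^ k = 1 := congrArg Subtype.val hk
    classical
    have hex : ∃ k : ℕ, (c : G) ^ t ^ k = 1 := ⟨k, hk'⟩
    set n := Nat.find hex with hn
    have hn0 : n ≠ 0 := by
      intro h0
      have h1 := Nat.find_spec hex
      rw [← hn, h0, pow_zero, pow_one] at h1
      exact hc1' h1
    obtain ⟨n', hn'⟩ := Nat.exists_eq_succ_of_ne_zero hn0
    refine ⟨(c : G) ^ t ^ n', ?_, ?_, (T : Subgroup G).pow_mem c.2 _, ?_⟩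
    · exact Nat.find_min hex (m := n') (by omega)
    · rw [← pow_mul, ← pow_succ]
      have h1 := Nat.find_spec hex
      rw [← hn, hn'] at h1
      exact h1
    · intro y hy
      have h1 : (⟨y, hy⟩ : T) * c = c * ⟨y, hy⟩ := Subgroup.mem_center_iff.1 hcZ ⟨y, hy⟩
      have h2 : Commute y (c : G) := congrArg Subtype.val h1
      exact (h2.pow_right _).eq
  have hTz : ∀ y ∈ (T : Subgroup G), y ^ t = 1 → y ∈ Subgroup.zpowers z := by
    intro y hy hyt
    by_contra hc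
    exact hcon _ (EAb_of_pair ht' hz1 hzt hyt hc (hzc y hy))
  -- the centralizer of `z`
  let C : Subgroup G := Subgroup.centralizer {z}
  have hC : ∀ u ∈ P.erase t, u ∣ Nat.card C := by
    intro u hu
    obtain ⟨hut, huP⟩ := Finset.mem_erase.1 hu
    obtain ⟨y, b, hy1, hb1, hyt, hbu, hyb⟩ := h.joined t ht u huP hut.symm
    obtain ⟨g, hg⟩ := hel y hyt
    have h1 := hTz _ hg (by rw [conj_pow, hyt, mul_one, mul_inv_cancel])
    have h2 : g * y * g⁻¹ ≠ 1 := by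
      intro h
      apply hy1
      rw [mul_inv_eq_one] at h
      exact mul_eq_left.1 h
    have h3 : (g * b * g⁻¹) * z = z * (g * b * g⁻¹) := by
      apply commute_of_zpowers ht' hzt h1 h2
      calc g * b * g⁻¹ * (g * y * g⁻¹) = g * (b * y) * g⁻¹ := by group
        _ = g * (y * b) * g⁻¹ := by rw [hyb]
        _ = _ := by group
    have h4 : g * b * g⁻¹ ∈ C := Subgroup.mem_centralizer_singleton_iff.2 h3
    have h5 : orderOf (⟨_, h4⟩ : C) = u := by
      apply orderOf_eq_of_pow (h.hP u huP)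
      · intro h6
        apply hb1
        have h7 : g * b * g⁻¹ = 1 := congrArg Subtype.val h6
        rw [mul_inv_eq_one] at h7
        exact mul_eq_left.1 h7
      · apply Subtype.ext
        change (g * b * g⁻¹) ^ u = 1
        rw [conj_pow, hbu, mul_one, mul_inv_cancel]
    rw [← h5]
    exact orderOf_dvd_natCard _
  obtain ⟨K, hK, hKc⟩ := exists_hall (G := C) (fun u => u ∈ P.erase t)
  obtain ⟨u, hu, w, hw, huw, a, b, ha1, hb1, hau, hbw, hab⟩ := lucido (G := K) (P := P.erase t)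
    (fun u hu => h.hP u (Finset.mem_erase.1 hu).2) hP3 hK (by
      intro u hu
      obtain ⟨x, hx1, hxu⟩ := dvd_card_hall hKc (h.hP u (Finset.mem_erase.1 hu).2) hu (hC u hu)
      rw [← orderOf_eq_of_pow (h.hP u (Finset.mem_erase.1 hu).2) hx1 hxu]
      exact orderOf_dvd_natCard x)
  refine h.T3 u (Finset.mem_erase.1 hu).2 w (Finset.mem_erase.1 hw).2 t ht huw
    (Finset.mem_erase.1 hu).1 (Finset.mem_erase.1 hw).1 (a : C) (b : C) z
    (fun h => ha1 (Subtype.ext (Subtype.ext h))) (fun h => hb1 (Subtype.ext (Subtype.ext h))) hz1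
    (congrArg (fun x : K => ((x : C) : G)) hau) (congrArg (fun x : K => ((x : C) : G)) hbw) hzt
    (congrArg (fun x : K => ((x : C) : G)) hab) ?_ ?_
  · exact Subgroup.mem_centralizer_singleton_iff.1 (a : C).2
  · exact Subgroup.mem_centralizer_singleton_iff.1 (b : C).2

end CfgG

end Cfsg.Agent.H456
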