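import Cfsg.Agent.H456.FourG

set_option autoImplicit false
set_option linter.unusedSectionVars false

/-!
S3814: the end of the proof.
-/

namespace Cfsg.Agent.H456

open Cfsg.Agent
open scoped commutatorElement Pointwise

namespace CfgG

variable {G : Type*} [Group G] [Finite G] {P : Finset ℕ}

theorem false (h : CfgG G P) : False := by
  have := h.solv
  have htop : (⊤ : Subgroup G) ≠ ⊥ := by
    intro hbot
    obtain ⟨t, ht⟩ : P.Nonempty := by rw [← Finset.card_pos, h.hP4]; norm_num
    obtain ⟨A, hA⟩ := h.thick ht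
    apply hA.nc
    have h1 : ∀ g : G, g = 1 := by
      intro g
      have : g ∈ (⊤ : Subgroup G) := trivial
      rwa [hbot, Subgroup.mem_bot] at this
    have : Subsingleton A := ⟨fun a b => Subtype.ext (by rw [h1 a, h1 b])⟩
    infer_instance
  obtain ⟨p, hp', hpd, V0, hV0n, -, hV0b, hV0ab, hV0p⟩ :=
    exists_elem_abelian (N := (⊤ : Subgroup G)) inferInstance htop
  have hp := h.hG p hp' hpd
  have hPc : (P.erase p).card = 3 := by rw [Finset.card_erase_of_mem hp, h.hP4]
  obtain ⟨H, hH, hHc⟩ := exists_hall (G := G) (fun t => t ∈ P.erase p)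
  -- a minimal invariant subgroup
  obtain ⟨V, ⟨hVV0, hVb, hVinv⟩, hVmin⟩ : ∃ V : Subgroup G, (V ≤ V0 ∧ V ≠ ⊥ ∧
      ∀ g ∈ H, ∀ v ∈ V, g * v * g⁻¹ ∈ V) ∧ ∀ U : Subgroup G, (U ≤ V0 ∧ U ≠ ⊥ ∧
      ∀ g ∈ H, ∀ v ∈ U, g * v * g⁻¹ ∈ U) → U ≤ V → V ≤ U := by
    have hne : ({V : Subgroup G | V ≤ V0 ∧ V ≠ ⊥ ∧ ∀ g ∈ H, ∀ v ∈ V, g * v * g⁻¹ ∈ V}).Nonempty :=
      ⟨V0, le_rfl, hV0b, fun g _ v hv => hV0n.conj_mem v hv g⟩
    obtain ⟨V, hV⟩ := Set.Finite.exists_minimal (Set.toFinite _) hne
    exact ⟨V, hV.1, fun U hU hUV => hV.2 hU hUV⟩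
  have hVab : ∀ a ∈ V, ∀ b ∈ V, a * b = b * a := fun a ha b hb =>
    hV0ab a (hVV0 ha) b (hVV0 hb)
  have hVp : ∀ a ∈ V, a ^ p = 1 := fun a ha => hV0p a (hVV0 ha)
  let _ : CommGroup V := { (inferInstance : Group V) with
    mul_comm := fun a b => Subtype.ext (hVab a a.2 b b.2) }
  have hHs : H ≤ stabU (MulAut.conj : G →* MulAut G) V := fun g hg =>
    mem_stabU_of_finite _ V (fun v hv => hVinv g hg v hv)
  let φ : H →* MulAut V := (resU (MulAut.conj : G →* MulAut G) V).comp (Subgroup.inclusion hHs)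
  have hφ : ∀ (x : H) (v : V), ((φ x v : V) : G) = x * v * (x : G)⁻¹ := fun x v => rfl
  have hφc : ∀ (x : H) (v : V), φ x v = v ↔ (x : G) * v = v * x := by
    intro x v
    rw [Subtype.ext_iff, hφ, mul_inv_eq_iff_eq_mul]
  have hVnt : ∃ v : V, v ≠ 1 := Subgroup.ne_bot_iff_exists_ne_one.1 hVb
  have hcV : (Nat.card H).Coprime (Nat.card V) := by
    apply coprime_of_primes
    intro t ht h1 h2
    have h3 := hH t ht h1
    have h4 := (Nat.prime_dvd_prime_iff_eq ht hp').1 (dvd_of_exp hVp ht h2)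
    exact (Finset.mem_erase.1 h3).1 h4
  have hthick : ∀ t ∈ P.erase p, ∃ A : Subgroup H, EAb t A := fun t ht =>
    EAb_hall hHc (h.hP t (Finset.mem_erase.1 ht).2) ht (h.thick (Finset.mem_erase.1 ht).2)
  have hjoined : ∀ t ∈ P.erase p, ∀ u ∈ P.erase p, t ≠ u → ∃ a b : H, a ≠ 1 ∧ b ≠ 1 ∧
      a ^ t = 1 ∧ b ^ u = 1 ∧ a * b = b * a := fun t ht u hu htu =>
    joined_hall hHc (h.hP t (Finset.mem_erase.1 ht).2) ht (h.hP u (Finset.mem_erase.1 hu).2) hu
      htu (h.joined t (Finset.mem_erase.1 ht).2 u (Finset.mem_erase.1 hu).2 htu)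
  have hTV : ∀ t ∈ P.erase p, ∀ u ∈ P.erase p, t ≠ u → ∀ a b : H, a ≠ 1 → b ≠ 1 →
      a ^ t = 1 → b ^ u = 1 → a * b = b * a → ∀ v : V, v ≠ 1 → φ a v = v → φ b v = v → False := by
    intro t ht u hu htu a b ha1 hb1 hat hbu hab v hv1 hav hbv
    exact h.T3 t (Finset.mem_erase.1 ht).2 u (Finset.mem_erase.1 hu).2 p hp htu
      (Finset.mem_erase.1 ht).1 (Finset.mem_erase.1 hu).1 a b v (fun h => ha1 (Subtype.ext h))
      (fun h => hb1 (Subtype.ext h)) (fun h => hv1 (Subtype.ext h)) (congrArg Subtype.val hat)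
      (congrArg Subtype.val hbu) (hVp v v.2) (congrArg Subtype.val hab) ((hφc a v).1 hav)
      ((hφc b v).1 hbv)
  by_cases hker : φ.ker = ⊥
  · have hinj : Function.Injective φ := (MonoidHom.ker_eq_bot_iff φ).1 hker
    have hB : CfgB φ (P.erase p) := by
      refine
        { hP := fun t ht => h.hP t (Finset.mem_erase.1 ht).2
          hP3 := hPc
          solv := inferInstance
          hH := hH
          cV := hcV
          thick := hthick
          faithful := fun g hg => hinj (by rw [map_one]; exact MulEquiv.ext hg)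
          irr := ?_
          ntV := hVnt
          TV := hTV
          T3 := ?_
          joined := hjoined }
      · intro U hU
        by_cases hUb : U = ⊥
        · exact Or.inl hUb
        right
        have h1 : V ≤ U.map V.subtype := by
          apply hVmin
          · refine ⟨?_, ?_, ?_⟩
            · rintro _ ⟨v, -, rfl⟩
              exact hVV0 v.2
            · intro hb
              apply hUb
              rw [Subgroup.map_eq_bot_iff_of_injective U V.subtype_injective] at hb
              exact hb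
            · rintro g hg _ ⟨v, hv, rfl⟩
              exact ⟨φ ⟨g, hg⟩ v, hU ⟨g, hg⟩ v hv, rfl⟩
          · rintro _ ⟨v, -, rfl⟩
            exact v.2
        rw [eq_top_iff]
        intro v _
        obtain ⟨u, hu, huv⟩ := h1 v.2
        rw [← Subtype.ext huv]
        exact hu
      · intro t ht u hu w hw htu htw huw a b c ha1 hb1 hc1 hat hbu hcw hab hac hbc
        exact h.T3 t (Finset.mem_erase.1 ht).2 u (Finset.mem_erase.1 hu).2 w
          (Finset.mem_erase.1 hw).2 htu htw huw a b c (fun h => ha1 (Subtype.ext h))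
          (fun h => hb1 (Subtype.ext h)) (fun h => hc1 (Subtype.ext h))
          (congrArg Subtype.val hat) (congrArg Subtype.val hbu) (congrArg Subtype.val hcw)
          (congrArg Subtype.val hab) (congrArg Subtype.val hac) (congrArg Subtype.val hbc)
    exact hB.false
  · -- the kernel is not trivial
    obtain ⟨q, hq', hqd, Q0, hQn, hQk, hQb, hQab, hQq⟩ :=
      exists_elem_abelian (N := φ.ker) inferInstance hker
    have hq := hH q hq' hqd
    obtain ⟨r, s, hrs, hPe⟩ := Finset.card_eq_two.1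
      (show ((P.erase p).erase q).card = 2 by rw [Finset.card_erase_of_mem hq, hPc])
    have hr0 : r ∈ (P.erase p).erase q := by rw [hPe]; simp
    have hs0 : s ∈ (P.erase p).erase q := by rw [hPe]; simp
    obtain ⟨hrq, hr⟩ := Finset.mem_erase.1 hr0
    obtain ⟨hsq, hs⟩ := Finset.mem_erase.1 hs0
    have hr' := h.hP r (Finset.mem_erase.1 hr).2
    have hs' := h.hP s (Finset.mem_erase.1 hs).2
    obtain ⟨L, hL, hLc⟩ := exists_hall (G := H) (fun t => t = r ∨ t = s)
    let _ : CommGroup Q0 := { (inferInstance : Group Q0) with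
      mul_comm := fun a b => Subtype.ext (hQab a a.2 b b.2) }
    let ψ : L →* MulAut Q0 := (MulAut.conjNormal (H := Q0)).comp L.subtype
    have hψ : ∀ (x : L) (w : Q0), ((ψ x w : Q0) : H) = x * w * (x : H)⁻¹ := fun x w => rfl
    have hψc : ∀ (x : L) (w : Q0), ψ x w = w ↔ (x : H) * w = w * x := by
      intro x w
      rw [Subtype.ext_iff, hψ, mul_inv_eq_iff_eq_mul]
    have hQV : ∀ w ∈ Q0, ∀ v : V, (w : G) * v = v * w := by
      intro w hw v
      have h1 : φ w = 1 := hQk hw
      exact (hφc w v).1 (by rw [h1]; rfl)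
    have hA : CfgA (φ.comp L.subtype) ψ r s := by
      refine
        { hr := hr'
          hs := hs'
          hrs := hrs
          hL := hL
          cV := hcV.coprime_dvd_left (Subgroup.card_subgroup_dvd_card L)
          cQ := ?_
          thr := EAb_hall hLc hr' (Or.inl rfl) (hthick r hr)
          ths := EAb_hall hLc hs' (Or.inr rfl) (hthick s hs)
          T1 := ?_
          TV := ?_
          TQ := ?_
          ntV := hVnt
          ntQ := Subgroup.ne_bot_iff_exists_ne_one.1 hQb }
      · apply coprime_of_primes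
        intro t ht h1 h2
        have h3 := hL t ht h1
        have h4 := (Nat.prime_dvd_prime_iff_eq ht hq').1 (dvd_of_exp hQq ht h2)
        rcases h3 with h3 | h3
        · exact hrq (h3.symm.trans h4)
        · exact hsq (h3.symm.trans h4)
      · rintro x hx1 hx ⟨v, hv1, hv⟩ ⟨w, hw1, hw⟩
        obtain ⟨t, ht, htq, hxt⟩ : ∃ t ∈ P.erase p, t ≠ q ∧ x ^ t = 1 := by
          rcases hx with hx | hx
          · exact ⟨r, hr, hrq, hx⟩
          · exact ⟨s, hs, hsq, hx⟩
        refine h.T3 t (Finset.mem_erase.1 ht).2 q (Finset.mem_erase.1 hq).2 p hp htq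
          (Finset.mem_erase.1 ht).1 (Finset.mem_erase.1 hq).1 ((x : H) : G) ((w : H) : G) v
          (fun h => hx1 (Subtype.ext (Subtype.ext h)))
          (fun h => hw1 (Subtype.ext (Subtype.ext h))) (fun h => hv1 (Subtype.ext h))
          (congrArg (fun x : L => ((x : H) : G)) hxt) ?_ (hVp v v.2) ?_ ((hφc x v).1 hv)
          (hQV w w.2 v)
        · exact congrArg Subtype.val (hQq w w.2)
        · exact congrArg Subtype.val ((hψc x w).1 hw)
      · intro a b ha1 hb1 har hbs hab v hv1 hav hbv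
        exact hTV r hr s hs hrs a b (fun h => ha1 (Subtype.ext h))
          (fun h => hb1 (Subtype.ext h)) (congrArg Subtype.val har) (congrArg Subtype.val hbs)
          (congrArg Subtype.val hab) v hv1 hav hbv
      · intro a b ha1 hb1 har hbs hab w hw1 haw hbw
        refine h.T3 r (Finset.mem_erase.1 hr).2 s (Finset.mem_erase.1 hs).2 q
          (Finset.mem_erase.1 hq).2 hrs hrq hsq ((a : H) : G) ((b : H) : G) ((w : H) : G)
          (fun h => ha1 (Subtype.ext (Subtype.ext h)))
          (fun h => hb1 (Subtype.ext (Subtype.ext h)))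
          (fun h => hw1 (Subtype.ext (Subtype.ext h)))
          (congrArg (fun x : L => ((x : H) : G)) har) (congrArg (fun x : L => ((x : H) : G)) hbs)
          (congrArg Subtype.val (hQq w w.2)) (congrArg (fun x : L => ((x : H) : G)) hab) ?_ ?_
        · exact congrArg Subtype.val ((hψc a w).1 haw)
        · exact congrArg Subtype.val ((hψc b w).1 hbw)
    exact hA.false

end CfgG

/-- commuting elements of coprime orders -/
theorem exists_pair_of_orderOf {G : Type*} [Group G] {p q : ℕ} (hp : p.Prime) (hq : q.Prime)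
    {g : G} (hg : orderOf g = p * q) : ∃ a b : G, a ≠ 1 ∧ b ≠ 1 ∧ a ^ p = 1 ∧ b ^ q = 1 ∧
      a * b = b * a := by
  refine ⟨g ^ q, g ^ p, ?_, ?_, ?_, ?_, ?_⟩
  · intro h
    have h1 := Nat.le_of_dvd hq.pos (orderOf_dvd_of_pow_eq_one h)
    rw [hg] at h1
    have := hp.two_le
    have := hq.pos
    nlinarith
  · intro h
    have h1 := Nat.le_of_dvd hp.pos (orderOf_dvd_of_pow_eq_one h)
    rw [hg] at h1
    have := hq.two_le
    have := hp.pos
    nlinarith
  · rw [← pow_mul, mul_comm, ← hg, pow_orderOf_eq_one]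
  · rw [← pow_mul, ← hg, pow_orderOf_eq_one]
  · rw [← pow_add, ← pow_add, add_comm]

theorem orderOf_triple {G : Type*} [Group G] {p q r : ℕ} (hp : p.Prime) (hq : q.Prime)
    (hr : r.Prime) (hpq : p ≠ q) (hpr : p ≠ r) (hqr : q ≠ r) {a b c : G} (ha1 : a ≠ 1)
    (hb1 : b ≠ 1) (hc1 : c ≠ 1) (hap : a ^ p = 1) (hbq : b ^ q = 1) (hcr : c ^ r = 1)
    (hab : a * b = b * a) (hac : a * c = c * a) (hbc : b * c = c * b) :
    orderOf (a * b * c) = p * q * r := by
  have ha := orderOf_eq_of_pow hp ha1 hap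
  have hb := orderOf_eq_of_pow hq hb1 hbq
  have hc := orderOf_eq_of_pow hr hc1 hcr
  have h1 : orderOf (a * b) = p * q := by
    rw [(show Commute a b from hab).orderOf_mul_eq_mul_orderOf_of_coprime (by
      rw [ha, hb]; exact (Nat.coprime_primes hp hq).2 hpq), ha, hb]
  have h2 : Commute (a * b) c := (show Commute a c from hac).mul_left hbc
  rw [h2.orderOf_mul_eq_mul_orderOf_of_coprime (by
    rw [h1, hc]
    exact Nat.Coprime.mul_left ((Nat.coprime_primes hp hr).2 hpr)
      ((Nat.coprime_primes hq hr).2 hqr)), h1, hc]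

end Cfsg.Agent.H456
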