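import Mathlib
import Cfsg.Agent.H520.CcpCfg
import Cfsg.Agent.S2730
import Cfsg.Agent.S2586
import Cfsg.Agent.S2589
import Cfsg.Agent.S0247
import Cfsg.Agent.H202.PspSplit

/-!
# S4114, the symplectic groups (helper456, for helper520)

For `Cfg α`, `α : MulAut (PSp m F)`, `m ≥ 2`, `(m, |F|) ≠ (2, 2)`, `r = char F`:

* `real_psp` : elements of odd prime order `≠ r` of `PSp m F` are real;
* `fix_phi` : `C_G(φ_σ)` is the image of `Sp_2m(F₀)`, `F₀` the fixed field, for `σ` of odd order;
* `no_odd` : no odd prime `p ≠ r` divides `|α|`;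
* `row_psp_two` : `Row (PSp m F)` in characteristic two; in particular `psp_graph` (no graph type configurations);
* `el_psp` : `ElRow r (PSp m F)`.
-/

set_option autoImplicit false

namespace Cfsg.Agent.H456.PspGraph

open Subgroup Cfsg
open scoped Matrix
open Cfsg.Agent.H520
open Cfsg.Agent.ClassicalGeometry.SympBasic Cfsg.Agent.ClassicalGeometry.SympAutSemi
  Cfsg.Agent.ClassicalGeometry.SympGamma Cfsg.Agent.ClassicalGeometry.SympAutExists
open Cfsg.Agent.H206.PspFix Cfsg.Agent.H206.PspBal
open Cfsg.Agent.LieClassical (SympCenter.mem_center_iff SympCenter.sq_eq_one_of_smul_mem)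

universe u

/-- Elements of `Sp` of order prime to the characteristic are real. -/
theorem real_sp {F : Type*} [Field F] [Fintype F] {r : ℕ} [Fact r.Prime] [CharP F r] {m : ℕ}
    (A : Matrix.symplecticGroup (Fin m) F) (hA : (orderOf A).Coprime r) :
    ∃ g : Matrix.symplecticGroup (Fin m) F, g * A * g⁻¹ = A⁻¹ :=
  isConj_iff.1 ((S2589.result (p := r) A A⁻¹ hA).2 (S2586.result A))

/-- Elements of odd prime order, not the characteristic, are real in `PSp`. -/
theorem real_psp {F : Type*} [Field F] [Fintype F] {r : ℕ} [hr : Fact r.Prime] [CharP F r] {m : ℕ} (hm : 1 ≤ m)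
    {p : ℕ} (hp : p.Prime) (hp2 : p ≠ 2) (hpr : p ≠ r) {y : PSp m F} (hy : orderOf y = p) :
    ∃ g : PSp m F, g * y * g⁻¹ = y⁻¹ := by
  obtain ⟨A, rfl⟩ := QuotientGroup.mk_surjective y
  have h0 : (QuotientGroup.mk (A ^ p) : PSp m F) = 1 := by
    rw [QuotientGroup.mk_pow, ← hy]
    exact pow_orderOf_eq_one _
  have h1 : A ^ p ∈ center (Matrix.symplecticGroup (Fin m) F) := (QuotientGroup.eq_one_iff _).1 h0
  obtain ⟨a, ha⟩ := (LieClassical.SympCenter.mem_center_iff m _).1 h1
  have haa := LieClassical.SympCenter.sq_eq_one_of_smul_mem (F := F) hm (ha ▸ (A ^ p).2)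
  have h2 : A ^ p * A ^ p = 1 := by
    apply Subtype.ext
    rw [Submonoid.coe_mul, ha, smul_mul_smul_comm, mul_one, haa, one_smul]
    rfl
  obtain ⟨k, hk⟩ := hp.odd_of_ne_two hp2
  have h3 : (A ^ (p + 1)) ^ p = 1 := by
    rw [← pow_mul, show (p + 1) * p = (p + p) * (k + 1) by rw [hk]; ring, pow_mul, pow_add A p p, h2, one_pow]
  have h4 : (QuotientGroup.mk (A ^ (p + 1)) : PSp m F) = QuotientGroup.mk A := by
    rw [pow_succ, QuotientGroup.mk_mul, h0, one_mul]
  have h5 : (orderOf (A ^ (p + 1))).Coprime r :=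
    Nat.Coprime.coprime_dvd_left (orderOf_dvd_of_pow_eq_one h3) ((Nat.coprime_primes hp hr.out).2 hpr)
  obtain ⟨g, hg⟩ := real_sp (A ^ (p + 1)) h5
  refine ⟨QuotientGroup.mk g, ?_⟩
  rw [← h4, ← QuotientGroup.mk_inv, ← QuotientGroup.mk_inv, ← hg]
  rfl

section Field

variable {F : Type u} [Field F] {m : ℕ}

theorem hj_fix (σ : F ≃+* F) : ∀ a, σ a = a ↔ ∃ b, (H966.Frob.fix σ).subtype b = a := by
  intro a
  constructor
  · intro h
    exact ⟨⟨a, h⟩, rfl⟩
  · rintro ⟨b, rfl⟩
    exact b.2

/-- The fixed points of a standard field automorphism of odd order. -/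
theorem fix_phi [Finite F] (hm1 : 1 ≤ m) {σ : F ≃+* F} {n : ℕ} (hn : Odd n) (hσ : σ ^ n = 1) :
    fixA (phi m F σ) = (psi m (H966.Frob.fix σ).subtype).range := by
  apply le_antisymm
  · intro c hc
    obtain ⟨s, rfl⟩ := QuotientGroup.mk_surjective c
    rw [mem_fixA, phi_mk, eq_comm, QuotientGroup.eq] at hc
    obtain ⟨a, ha⟩ := (LieClassical.SympCenter.mem_center_iff m _).1 hc
    have haa := LieClassical.SympCenter.sq_eq_one_of_smul_mem (F := F) hm1 (ha ▸ (s⁻¹ * mapSp m (σ : F →+* F) s).2)
    have ha1 : a = 1 ∨ a = -1 := mul_self_eq_one_iff.1 haa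
    have h3 : s.1.map σ = a • s.1 := by
      have h4 : mapSp m (σ : F →+* F) s = s * (s⁻¹ * mapSp m (σ : F →+* F) s) := by group
      have h5 := congrArg Subtype.val h4
      change s.1.map σ = s.1 * (s⁻¹ * mapSp m (σ : F →+* F) s).1 at h5
      rw [h5, ha, mul_smul_comm, mul_one]
    have hσa : ∀ n : ℕ, (σ ^ n) a = a := by
      intro n
      rcases ha1 with rfl | rfl
      · exact map_one _
      · rw [map_neg, map_one]
    have h6 : ∀ n : ℕ, s.1.map (σ ^ n) = a ^ n • s.1 := by
      intro n
      induction n with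
      | zero => ext i k; simp
      | succ n ih =>
        ext i k
        have h7 := congrFun (congrFun h3 i) k
        have h8 := congrFun (congrFun ih i) k
        rw [Matrix.map_apply, Matrix.smul_apply, smul_eq_mul] at h7 h8 ⊢
        rw [pow_succ, RingAut.mul_apply, h7, map_mul, hσa, h8, pow_succ]
        ring
    have h7 := h6 n
    rw [hσ] at h7
    have h8 : a = 1 := by
      rcases ha1 with h | h
      · exact h
      · rw [h, hn.neg_one_pow, neg_one_smul] at h7
        by_cases h2F : (2 : F) = 0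
        · rw [h]
          linear_combination -h2F
        · exfalso
          have h10 : s.1 = 0 := by
            ext i k
            have h11 := congrFun (congrFun h7 i) k
            have h12 : s.1 i k = -s.1 i k := h11
            have h13 : (2 : F) * s.1 i k = 0 := by linear_combination h12
            exact (mul_eq_zero.1 h13).resolve_left h2F
          have h11 : rho m F s (Pi.single (Sum.inl ⟨0, hm1⟩) 1) = rho m F s 0 := by
            rw [rho_apply, rho_apply, h10, Matrix.zero_mulVec, Matrix.zero_mulVec]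
          have h12 := congrFun ((rho m F s).injective h11) (Sum.inl ⟨0, hm1⟩)
          rw [Pi.single_eq_same] at h12
          exact one_ne_zero h12
    rw [h8, one_smul] at h3
    obtain ⟨B, hB⟩ := (mem_range_mapSp (hj_fix σ) (s := s)).2 (Subtype.ext h3)
    exact ⟨B, by rw [psi_apply, hB]⟩
  · rintro _ ⟨A, rfl⟩
    rw [mem_fixA, psi_apply, phi_mk, (mem_range_mapSp (hj_fix σ)).1 ⟨A, rfl⟩]

theorem not_solv_perm : ¬ Group.IsSolvable (Equiv.Perm (Fin 6)) :=
  Equiv.Perm.not_isSolvable (Fin 6) (by rw [Cardinal.mk_fin]; norm_num)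

/-- The solvable normal subgroups of `S_6`. -/
theorem nosol_six {R : Type*} [Group R] (e : R ≃* Equiv.Perm (Fin 6)) (N : Subgroup R) (hN : N.Normal)
    (hs : Group.IsSolvable N) : N = ⊥ := by
  by_contra hne
  have h1 : (N.map e.toMonoidHom).Normal := hN.map _ e.surjective
  have h2 : N.map e.toMonoidHom ≠ ⊥ := by
    intro h
    exact hne ((Subgroup.map_eq_bot_iff_of_injective _ e.injective).1 h)
  have h3 : alternatingGroup (Fin 6) ≤ N.map e.toMonoidHom := by
    have : Nontrivial (N.map e.toMonoidHom) := (Subgroup.nontrivial_iff_ne_bot _).2 h2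
    exact Equiv.Perm.alternatingGroup_le_of_normal (by rw [Nat.card_eq_fintype_card, Fintype.card_fin]; omega) this
  have h4 : Group.IsSolvable (N.map e.toMonoidHom) :=
    Group.isSolvable_of_surjective (f := e.toMonoidHom.subgroupMap N) (e.toMonoidHom.subgroupMap_surjective N)
  have h5 : Group.IsSolvable (alternatingGroup (Fin 6)) :=
    Group.isSolvable_of_isSolvable_injective (f := inclusion h3) (inclusion_injective h3)
  apply not_solv_perm
  refine (Group.isSolvable_iff_subgroup_quotient (alternatingGroup (Fin 6))).2 ⟨h5, ?_⟩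
  have h6 : (alternatingGroup (Fin 6)) = (Equiv.Perm.sign : Equiv.Perm (Fin 6) →* ℤˣ).ker := rfl
  exact Group.isSolvable_of_isSolvable_injective
    (f := QuotientGroup.kerLift (Equiv.Perm.sign : Equiv.Perm (Fin 6) →* ℤˣ))
    (QuotientGroup.kerLift_injective _)

/-- The images of `Sp` modulo the centre have no nontrivial solvable normal subgroups. -/
theorem nosol [Finite F] {X : Type*} [Group X] (hm : 2 ≤ m) (ψ : Matrix.symplecticGroup (Fin m) F →* X)
    (hker : ψ.ker = Subgroup.center _) (N : Subgroup ψ.range) (hN : N.Normal) (hs : Group.IsSolvable N) : N = ⊥ := by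
  have : Fintype F := Fintype.ofFinite F
  by_cases hc : m = 2 → 3 ≤ Fintype.card F
  · have hsimp := S0270.result (F := F) m hm hc
    let e : PSp m F ≃* ψ.range :=
      (QuotientGroup.quotientMulEquivOfEq hker.symm).trans (QuotientGroup.quotientKerEquivRange ψ)
    have hsimp' : IsSimpleGroup ψ.range := e.symm.isSimpleGroup
    rcases hsimp'.eq_bot_or_eq_top_of_normal _ hN with h | h
    · exact h
    · exfalso
      subst h
      have h1 : Group.IsSolvable ψ.range :=
        Group.isSolvable_of_surjective (f := (⊤ : Subgroup ψ.range).subtype) (fun x => ⟨⟨x, trivial⟩, rfl⟩)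
      have h2 : Group.IsSolvable (PSp m F) :=
        Group.isSolvable_of_surjective (f := e.symm.toMonoidHom) e.symm.surjective
      have h3 := IsSimpleGroup.comm_iff_isSolvable.2 h2
      obtain ⟨ℓ, hℓ⟩ := CharP.exists F
      have hℓp : Fact ℓ.Prime := ⟨CharP.char_is_prime F ℓ⟩
      obtain ⟨e1, e2, hee⟩ := exists_hyperbolic (F := F) (m := m) (by omega)
      have h4 := (commute_iff (F := F) ℓ (m := m) (by omega) (v := e1) (w := e2) one_ne_zero one_ne_zero).1 (h3 _ _)
      rw [hee] at h4
      exact one_ne_zero h4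
  · push Not at hc
    obtain ⟨rfl, hc⟩ := hc
    have hc2 : Fintype.card F = 2 := by
      have := Fintype.one_lt_card (α := F)
      omega
    obtain ⟨e⟩ := LieClassical.SpFourTwo.nonempty_equiv_perm hc2
    have h2 : (2 : F) = 0 := by
      have := Nat.cast_card_eq_zero F
      rw [hc2] at this
      exact_mod_cast this
    have hker' : ψ.ker = ⊥ := by
      rw [hker, eq_bot_iff]
      intro z hz
      obtain ⟨a, ha⟩ := (LieClassical.SympCenter.mem_center_iff 2 z).1 hz
      have h3 := LieClassical.SympCenter.sq_eq_one_of_smul_mem (F := F) (m := 2) (by omega) (ha ▸ z.2)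
      have h4 : a = 1 := by
        have h5 : (a - 1) * (a - 1) = 0 := by linear_combination h3 + (1 - a) * h2
        have := mul_self_eq_zero.1 h5
        exact sub_eq_zero.1 this
      rw [Subgroup.mem_bot]
      apply Subtype.ext
      rw [ha, h4, one_smul]
      rfl
    let e' : ψ.range ≃* Equiv.Perm (Fin 6) := (MonoidHom.ofInjective ((MonoidHom.ker_eq_bot_iff ψ).1 hker')).symm.trans e
    exact nosol_six e' N hN hs

/-- If the standard field automorphism `φ_σ` of odd prime order is a power of `α`, then `α` is a power of `φ_σ`. -/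
theorem mem_zpowers_phi [Finite F] (hm : 2 ≤ m) {α : MulAut (PSp m F)} (h : Cfg α) {σ : F ≃+* F} {p : ℕ}
    (hp : p.Prime) (hp2 : p ≠ 2) (hσ : orderOf σ = p) (hy : phi m F σ ∈ zpowers α) : α ∈ zpowers (phi m F σ) := by
  have hm1 : 1 ≤ m := by omega
  have hfin : Finite (Matrix.symplecticGroup (Fin m) F) := Subtype.finite
  have hfin' : Finite (PSp m F) := Quotient.finite _
  have hσ1 : σ ≠ 1 := by
    rintro rfl
    rw [orderOf_one] at hσ
    exact hp.one_lt.ne hσ
  have hy1 : phi m F σ ≠ 1 := by
    intro h1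
    apply hσ1
    apply phi_injective hm1
    rw [h1, map_one]
  have hfx := fix_phi (m := m) hm1 (hp.odd_of_ne_two hp2) (by rw [← hσ, pow_orderOf_eq_one] : σ ^ p = 1)
  have hfinK : Finite (H966.Frob.fix σ) := Subtype.finite
  have hinv : ∀ x ∈ fixA (phi m F σ), α x ∈ fixA (phi m F σ) :=
    Cfg.fixA_inv (Cfg.comm_zpowers hy (mem_zpowers α))
  have hcen := h.centralizes' (M := fixA (phi m F σ)) (E := fixA (phi m F σ)) (Cfg.fixA_ne_top hy1) hinv le_rfl hinv (by
    rw [hfx]
    exact nosol hm _ (ker_psi _ hm1))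
  apply eq_frob_of_fix hm
  intro v hv c hc
  apply hcen
  rw [mem_fixA]
  change phi m F σ (QuotientGroup.mk (transv v c)) = QuotientGroup.mk (transv v c)
  rw [phi_mk, transv_map, hc]
  congr 2
  funext i
  exact hv i

/-- **(F1) for the field automorphisms of odd order.** -/
theorem phi_false [Finite F] (hm : 2 ≤ m) {σ : F ≃+* F} (h : Cfg (phi m F σ)) {n : ℕ} (hn : Odd n)
    (hσ : σ ^ n = 1) : False := by
  have hm1 : 1 ≤ m := by omega
  have : Fintype F := Fintype.ofFinite F
  have hfin : Finite (Matrix.symplecticGroup (Fin m) F) := Subtype.finite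
  have hfin' : Finite (PSp m F) := Quotient.finite _
  obtain ⟨ℓ, hℓ⟩ := CharP.exists F
  have hℓp : Fact ℓ.Prime := ⟨CharP.char_is_prime F ℓ⟩
  have hσ1 : σ ≠ 1 := by
    rintro rfl
    exact h.ne (map_one _)
  -- a difference which is a nonzero square
  obtain ⟨c, s, hs, hcs⟩ : ∃ c s : F, s ≠ 0 ∧ σ c - c = s * s := by
    obtain ⟨c₀, hc₀⟩ : ∃ c, σ c ≠ c := by
      by_contra hcon
      push Not at hcon
      exact hσ1 (RingEquiv.ext hcon)
    have hd : σ c₀ - c₀ ≠ 0 := sub_ne_zero.2 hc₀
    by_cases hsq : IsSquare (σ c₀ - c₀)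
    · obtain ⟨s, hs⟩ := hsq
      exact ⟨c₀, s, by rintro rfl; exact hd (by rw [hs, mul_zero]), hs⟩
    · have h2 : (2 : F) ≠ 0 := by
        intro h2
        have hchar : CharP F 2 := CharTwo.of_one_ne_zero_of_two_eq_zero one_ne_zero h2
        exact hsq (FiniteField.isSquare_of_char_two (ringChar.eq_iff.2 hchar) _)
      have hfinK : Finite (H966.Frob.fix σ) := Subtype.finite
      have hK2 : ringChar (H966.Frob.fix σ) ≠ 2 := by
        intro h3
        apply h2
        have h4 : ((2 : ℕ) : H966.Frob.fix σ) = 0 := by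
          rw [← h3]
          exact ringChar.Nat.cast_ringChar
        have h5 := congrArg (H966.Frob.fix σ).subtype h4
        rw [map_natCast, map_zero] at h5
        exact_mod_cast h5
      obtain ⟨f, hf⟩ := FiniteField.exists_nonsquare hK2
      have hf0 : (f : F) ≠ 0 := by
        intro h3
        apply hf
        have : f = 0 := Subtype.ext h3
        rw [this]
        exact ⟨0, by simp⟩
      have hfF : ¬ IsSquare (f : F) := fun h3 =>
        hf (H202.PspSplit.isSquare_of_map (hj_fix σ) h2 hn hσ (c := f) h3)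
      obtain ⟨s, hs⟩ := H202.PspSplit.isSquare_mul_of_not hf0 hd hfF hsq
      refine ⟨f * c₀, s, ?_, ?_⟩
      · rintro rfl
        rw [mul_zero] at hs
        exact mul_ne_zero hf0 hd hs
      · have h3 : σ (f : F) = f := f.2
        rw [map_mul, h3, ← hs]
        ring
  let i0 : Fin m ⊕ Fin m := Sum.inl ⟨0, hm1⟩
  let v : Fin m ⊕ Fin m → F := Pi.single i0 1
  have hv : v ≠ 0 := by
    intro h0
    have := congrFun h0 i0
    simp only [v, Pi.single_eq_same, Pi.zero_apply] at this
    exact one_ne_zero this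
  have hσv : (fun i => σ (v i)) = v := by
    funext k
    by_cases hk : k = i0
    · subst hk; simp [v]
    · simp only [v]
      rw [Pi.single_eq_of_ne hk, map_zero]
  have hph : ∀ c : F, phi m F σ (QuotientGroup.mk (transv v c)) = QuotientGroup.mk (transv v (σ c)) := by
    intro c
    rw [phi_mk, transv_map, hσv]
  obtain ⟨g, -, hg⟩ := exists_transvGroup_mulVec_eq (F := F) (smul_ne_zero hs hv) hv
  have hg' : g • (s • v) = v := hg
  have h1 := h.ccp.not_conj (g := QuotientGroup.mk (transv v c)) (k := QuotientGroup.mk g)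
    (c := QuotientGroup.mk (transv v 1)) (by rw [hph, map_one]) (by
      rw [hph, ← QuotientGroup.mk_inv, ← QuotientGroup.mk_mul, ClassicalGeometry.SympSiegel.transv_inv,
        ClassicalGeometry.SympSiegel.transv_mul, neg_add_eq_sub, hcs,
        show s * s = s ^ 2 * 1 by ring, ← ClassicalGeometry.SympSiegel.transv_smul_vec,
        ← QuotientGroup.mk_mul, ← QuotientGroup.mk_inv, ← QuotientGroup.mk_mul,
        ClassicalGeometry.SympSiegel.conj_transv, hg'])
  exact pr_transv_ne_one ℓ hm1 hv one_ne_zero h1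

end Field

/-- **No odd prime different from the characteristic divides the order of `α`.** -/
theorem no_odd {F : Type u} [Field F] [Fintype F] {r : ℕ} [hr : Fact r.Prime] [CharP F r] {m : ℕ} (hm : 2 ≤ m)
    (hs : m = 2 → 3 ≤ Fintype.card F) {α : MulAut (PSp m F)} (h : Cfg α) {p : ℕ} (hp : p.Prime) (hp2 : p ≠ 2)
    (hpr : p ≠ r) : ¬ p ∣ orderOf α := by
  intro hd
  have hm1 : 1 ≤ m := by omega
  have hfin : Finite (Matrix.symplecticGroup (Fin m) F) := Subtype.finite
  have hfin' : Finite (PSp m F) := Quotient.finite _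
  have hpf : Fact p.Prime := ⟨hp⟩
  obtain ⟨y, hy, hyo⟩ := exists_prime_order hp hd
  by_cases hin : IsInnerDiagonalAutPSp y
  · -- `y` is inner
    have h1 : y ∈ inndiagPSp m F := subset_closure hin
    have h2 : y ∈ (MulAut.conj : PSp m F →* MulAut (PSp m F)).range := by
      by_cases h2 : (2 : F) = 0
      · rw [← H966.PSpAut.inndiag_eq_inner h2]
        exact h1
      · have hr2 : ringChar F ≠ 2 := by
          intro h3
          apply h2
          have h4 : ((2 : ℕ) : F) = 0 := by
            rw [← h3]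
            exact ringChar.Nat.cast_ringChar
          exact_mod_cast h4
        have h3 := H202.PspSplit.relIndex_inn (F := F) hm1 hr2
        obtain ⟨k, hk⟩ := hp.odd_of_ne_two hp2
        have h4 : y = (y ^ (k + 1)) * (y ^ (k + 1)) := by
          have h4 := pow_orderOf_eq_one y
          rw [hyo, hk] at h4
          rw [← pow_add, show k + 1 + (k + 1) = (2 * k + 1) + 1 by ring, pow_succ, h4, one_mul]
        have h5 := Subgroup.mul_self_mem_of_index_two (H := (Inn (PSp m F)).subgroupOf (inndiagPSp m F)) h3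
          ⟨y ^ (k + 1), pow_mem h1 _⟩
        rw [Subgroup.mem_subgroupOf] at h5
        have h6 : y ^ (k + 1) * y ^ (k + 1) ∈ Inn (PSp m F) := h5
        rw [← h4] at h6
        exact h6
    obtain ⟨y0, rfl⟩ := h2
    have h3 : orderOf y0 = p := by
      rw [← hyo]
      exact (orderOf_injective MulAut.conj (fun a b hab => conj_inj h.center_bot hab) y0).symm
    obtain ⟨g, hg⟩ := real_psp hm1 hp hp2 hpr h3
    have h4 := h.sq_eq_one_of_real hy hg
    have h5 := orderOf_dvd_of_pow_eq_one h4
    rw [h3] at h5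
    exact hp2 ((Nat.prime_dvd_prime_iff_eq hp Nat.prime_two).1 h5)
  · obtain ⟨σ, β, hσ, hβ⟩ := S2730.exists_phi (F := F) hm hs hpr y hyo hin
    have hcg := h.congr β⁻¹
    have e : ∀ x : MulAut (PSp m F), MulAut.congr (β⁻¹ : MulAut (PSp m F)) x = β⁻¹ * x * β := fun x => rfl
    rw [e] at hcg
    have h1 : phi m F σ ∈ zpowers (β⁻¹ * α * β) := by
      obtain ⟨i, hi⟩ := hy
      have hi' : α ^ i = y := hi
      refine ⟨i, ?_⟩
      change (β⁻¹ * α * β) ^ i = phi m F σ
      have h2 : (β⁻¹ * α * (β⁻¹)⁻¹) ^ i = β⁻¹ * α ^ i * (β⁻¹)⁻¹ := conj_zpow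
      rw [inv_inv] at h2
      rw [h2, hi', hβ]
      group
    have h2 := mem_zpowers_phi hm hcg hp hp2 hσ h1
    obtain ⟨j, hj⟩ := h2
    have hj' : β⁻¹ * α * β = phi m F (σ ^ j) := by
      rw [map_zpow]
      exact hj.symm
    rw [hj'] at hcg
    refine phi_false hm hcg (hp.odd_of_ne_two hp2) ?_
    rw [← zpow_natCast, ← zpow_mul, mul_comm, zpow_mul, zpow_natCast, ← hσ, pow_orderOf_eq_one, one_zpow]

/-- `2` divides `|PSp|`. -/
theorem two_dvd_psp {F : Type u} [Field F] [Finite F] {m : ℕ} (hm : 1 ≤ m) : 2 ∣ Nat.card (PSp m F) := by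
  have h1 := two_dvd (F₀ := F) hm (QuotientGroup.mk' (center (Matrix.symplecticGroup (Fin m) F)))
    (QuotientGroup.ker_mk' _)
  rw [MonoidHom.range_eq_top.2 (QuotientGroup.mk'_surjective _), card_top] at h1
  exact h1

/-- **The row of the symplectic groups in characteristic two.** -/
theorem row_psp_two {F : Type u} [Field F] [Fintype F] [CharP F 2] {m : ℕ} (hm : 2 ≤ m)
    (hs : m = 2 → 3 ≤ Fintype.card F) : Row (PSp m F) := by
  intro α h
  have hfin : Finite (Matrix.symplecticGroup (Fin m) F) := Subtype.finite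
  have hfin' : Finite (PSp m F) := Quotient.finite _
  obtain ⟨p, hp, hp2, hd⟩ := h.exists_prime_ne Nat.prime_two (two_dvd_psp (F := F) (m := m) (by omega))
  exact no_odd (r := 2) hm hs h hp hp2 hp2 hd

/-- **S4114, PSp4-GRAPH.** -/
theorem psp_graph {F : Type u} [Field F] [Fintype F] [CharP F 2] (hs : 3 ≤ Fintype.card F)
    {α : MulAut (PSp 2 F)} (h : Cfg α) : False :=
  row_psp_two le_rfl (fun _ => hs) α h

/-- **The elliptic configurations of the symplectic groups.** -/
theorem el_psp_field {F : Type u} [Field F] [Fintype F] {r : ℕ} [hr : Fact r.Prime] [CharP F r] {m : ℕ} (hm : 2 ≤ m)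
    (hs : m = 2 → 3 ≤ Fintype.card F) : ElRow r (PSp m F) := by
  intro α h hE
  have hfin : Finite (Matrix.symplecticGroup (Fin m) F) := Subtype.finite
  have hfin' : Finite (PSp m F) := Quotient.finite _
  have hrG : r ∣ Nat.card (PSp m F) := by
    have hm1 : 1 ≤ m := by omega
    have h1 : orderOf (pr (transv (Pi.single (Sum.inl ⟨0, hm1⟩) 1) (1 : F)) : PSp m F) = r := by
      apply orderOf_eq_prime
      · change (QuotientGroup.mk _ : PSp m F) ^ r = 1
        rw [← QuotientGroup.mk_pow, transv_pow_char]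
        rfl
      · exact pr_transv_ne_one r hm1 (fun h0 => by
          have := congrFun h0 (Sum.inl ⟨0, hm1⟩)
          rw [Pi.single_eq_same] at this
          exact one_ne_zero this) one_ne_zero
    rw [← h1]
    exact orderOf_dvd_natCard _
  have hpr : ∀ q : ℕ, q.Prime → q ∣ orderOf α → q = r ∨ q = 2 := by
    intro q hq hqd
    by_contra hcon
    push Not at hcon
    exact no_odd (r := r) hm hs h hq hcon.2 hcon.1 hqd
  have : Fact (Nat.Prime 2) := ⟨Nat.prime_two⟩
  have h1 := h.two_primes hrG hE (s := 2) hpr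
  obtain ⟨p, hp, hp2, hd⟩ := h.exists_prime_ne Nat.prime_two (two_dvd_psp (F := F) (m := m) (by omega))
  rcases hpr p hp hd with h2 | h2
  · exact h1 (h2 ▸ hd)
  · exact hp2 h2

/-- **S4114, EL-PSp.** -/
theorem el_psp {r : ℕ} [Fact r.Prime] {G : Type u} [Group G] (h : IsPSpChar r G) : ElRow r G := by
  obtain ⟨F, _, _, _, m, hm, hs, ⟨e⟩⟩ := h
  exact (el_psp_field hm hs).congr e

/-- The row of the symplectic groups in characteristic two. -/
theorem row_psp_char_two {G : Type u} [Group G] (h : IsPSpChar 2 G) : Row G := by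
  obtain ⟨F, _, _, _, m, hm, hs, ⟨e⟩⟩ := h
  exact (row_psp_two hm hs).congr e

end Cfsg.Agent.H456.PspGraph
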